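import Cfsg.Prelude.Def_GeometricClasses
import Cfsg.Agent.H906.Cov.EKill

/-!
# S2499, the z-lemma

`g` of odd order, `V4` its fixed space; `lam`, `u` commute with `g` and are trivial on `[V, g]`; on `V4` `lam` is a root
of the irreducible polynomial `X ^ 2 - t X + 1` and an isometry, and `u - 1` maps `V4` onto its kernel `C`, on which
`lam` acts irreducibly.  Then `g`, `lam`, `u` do not normalise a common quadratic field of self-adjoint matrices.
-/

set_option autoImplicit false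
set_option linter.unusedSectionVars false

namespace Cfsg.Agent.H248.Cov

open Cfsg Cfsg.Geo Matrix
open scoped MatrixGroups

universe u

section Root

variable {ι : Type} [Fintype ι] [DecidableEq ι] {F : Type u} [Field F]

/-- a quadratic field of matrices contains a root of `X ^ 2 - t X + 1` -/
theorem exists_root [Finite F] [Nonempty ι] {K : Subalgebra F (Matrix ι ι F)} (hK : IsFieldSubalgebra 2 K) {t : F}
    (ht : ∀ c : F, c * c - t * c + 1 ≠ 0) : ∃ k ∈ K, k * k - t • k + 1 = 0 := by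
  classical
  let P : Polynomial F := Polynomial.X ^ 2 + Polynomial.C (-t) * Polynomial.X + Polynomial.C 1
  have hdeg : P.natDegree = 2 := by
    have : P = Polynomial.C 1 * Polynomial.X ^ 2 + Polynomial.C (-t) * Polynomial.X + Polynomial.C 1 := by
      simp [P]
    rw [this]
    exact Polynomial.natDegree_quadratic one_ne_zero
  have hirr : Irreducible P := by
    rw [Polynomial.irreducible_iff_roots_eq_zero_of_degree_le_three (by omega) (by omega)]
    by_contra h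
    obtain ⟨c, hc⟩ := Multiset.exists_mem_of_ne_zero h
    have hc0 : P.eval c = 0 := (Polynomial.mem_roots'.1 hc).2
    apply ht c
    simp only [P, Polynomial.eval_add, Polynomial.eval_mul, Polynomial.eval_pow, Polynomial.eval_X,
      Polynomial.eval_C] at hc0
    linear_combination hc0
  let _ : Field K := (Cfsg.Agent.H906.Cov.isField_of hK).toField
  have : Fact (Irreducible P) := ⟨hirr⟩
  have hfinK : Finite K := Module.finite_of_finite F
  have hP0 : P ≠ 0 := hirr.ne_zero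
  have hf1 : Module.finrank F (AdjoinRoot P) = 2 := by
    rw [(AdjoinRoot.powerBasis hP0).finrank, AdjoinRoot.powerBasis_dim, hdeg]
  have : FiniteDimensional F (AdjoinRoot P) := Module.finite_of_finrank_pos (by rw [hf1]; norm_num)
  have hfinA : Finite (AdjoinRoot P) := Module.finite_of_finite F
  obtain ⟨f⟩ := FiniteField.nonempty_algHom_of_finrank_dvd (F := F) (K := AdjoinRoot P) (L := K)
    (by rw [hf1, hK.finrank_eq])
  refine ⟨(f (AdjoinRoot.root P) : K), (f (AdjoinRoot.root P)).2, ?_⟩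
  have h1 : Polynomial.aeval (f (AdjoinRoot.root P)) P = 0 := by
    rw [Polynomial.aeval_algHom_apply, AdjoinRoot.aeval_eq, AdjoinRoot.mk_self, map_zero]
  have h2 : f (AdjoinRoot.root P) * f (AdjoinRoot.root P) - t • f (AdjoinRoot.root P) + 1 = 0 := by
    generalize f (AdjoinRoot.root P) = r at h1 ⊢
    have h3 : Polynomial.aeval r P = r ^ 2 + algebraMap F K (-t) * r + algebraMap F K 1 := by
      simp only [P, map_add, map_mul, map_pow, Polynomial.aeval_X, Polynomial.aeval_C]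
    rw [h3, map_neg, map_one] at h1
    rw [Algebra.smul_def]
    linear_combination h1
  exact congrArg Subtype.val h2

end Root

section Z

variable {ι : Type} [Fintype ι] [DecidableEq ι] {F : Type u} [Field F] [Finite F] [Nonempty ι]

/-- the data of the z-lemma -/
structure ZData (f : (ι → F) → (ι → F) → F) (g lam w : GL ι F) (V4 C : Submodule F (ι → F)) (t : F) : Prop where
  two : (2 : F) ≠ 0
  form : IsBilinearForm f
  odd : Nat.Coprime (orderOf g) 2
  ne_one : g ≠ 1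
  fix : ∀ v, v ∈ V4 ↔ (g : Matrix ι ι F) *ᵥ v = v
  lam_one : ∀ v, (lam : Matrix ι ι F) *ᵥ ((g : Matrix ι ι F) *ᵥ v - v) = (g : Matrix ι ι F) *ᵥ v - v
  w_one : ∀ v, (w : Matrix ι ι F) *ᵥ ((g : Matrix ι ι F) *ᵥ v - v) = (g : Matrix ι ι F) *ᵥ v - v
  glam : g * lam = lam * g
  gw : g * w = w * g
  lamw : lam * w = w * lam
  irr : ∀ c : F, c * c - t * c + 1 ≠ 0
  lam_sq : ∀ v ∈ V4, (lam : Matrix ι ι F) *ᵥ ((lam : Matrix ι ι F) *ᵥ v) = t • ((lam : Matrix ι ι F) *ᵥ v) - v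
  iso : ∀ x y, f ((lam : Matrix ι ι F) *ᵥ x) ((lam : Matrix ι ι F) *ᵥ y) = f x y
  nd : ∀ v ∈ V4, v ≠ 0 → ∃ x ∈ V4, f x v ≠ 0
  mem_C : ∀ v, v ∈ C ↔ v ∈ V4 ∧ (w : Matrix ι ι F) *ᵥ v = v
  sub_mem : ∀ v ∈ V4, (w : Matrix ι ι F) *ᵥ v - v ∈ C
  C_ne : C ≠ ⊥
  V4_ne : V4 ≠ ⊥
  C_irr : ∀ W ≤ C, (∀ v ∈ W, (lam : Matrix ι ι F) *ᵥ v ∈ W) → W = ⊥ ∨ W = C

variable {f : (ι → F) → (ι → F) → F} {g lam w : GL ι F} {V4 C : Submodule F (ι → F)} {t : F}

/-- an element trivial on `[V, g]` commutes with a field commuting with `g` -/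
theorem comm_of_triv {K : Subalgebra F (Matrix ι ι F)} (hK : IsFieldSubalgebra 2 K) (hg1 : g ≠ 1)
    (hgK : ∀ k ∈ K, (g : Matrix ι ι F) * k = k * (g : Matrix ι ι F)) {y : GL ι F} (hy : y ∈ subalgebraNormalizer K)
    (h1 : ∀ v, (y : Matrix ι ι F) *ᵥ ((g : Matrix ι ι F) *ᵥ v - v) = (g : Matrix ι ι F) *ᵥ v - v) :
    ∀ k ∈ K, (y : Matrix ι ι F) * k = k * (y : Matrix ι ι F) := by
  intro k hk
  have hk' : (y : Matrix ι ι F) * k * ((y⁻¹ : GL ι F) : Matrix ι ι F) ∈ K := (hy k).1 hk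
  obtain ⟨v, hv⟩ : ∃ v, (g : Matrix ι ι F) *ᵥ v ≠ v := by
    by_contra hcon
    push Not at hcon
    apply hg1
    apply Units.ext
    apply Matrix.toLin'.injective
    apply LinearMap.ext
    intro v
    rw [Matrix.toLin'_apply, hcon v, Units.val_one, Matrix.toLin'_one]
    rfl
  set w0 := (g : Matrix ι ι F) *ᵥ v - v with hw0
  have hw0' : w0 ≠ 0 := sub_ne_zero.2 hv
  have e1 : ((y⁻¹ : GL ι F) : Matrix ι ι F) *ᵥ w0 = w0 := by
    have h2 : (y : Matrix ι ι F) *ᵥ w0 = w0 := h1 v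
    conv_lhs => rw [← h2]
    rw [Matrix.mulVec_mulVec, ← Units.val_mul, inv_mul_cancel, Units.val_one, Matrix.one_mulVec]
  have e2 : (y : Matrix ι ι F) *ᵥ (k *ᵥ w0) = k *ᵥ w0 := by
    have : k *ᵥ w0 = (g : Matrix ι ι F) *ᵥ (k *ᵥ v) - k *ᵥ v := by
      rw [hw0, Matrix.mulVec_sub, Matrix.mulVec_mulVec, Matrix.mulVec_mulVec, hgK k hk]
    rw [this, h1]
  have e3 : ((y : Matrix ι ι F) * k * ((y⁻¹ : GL ι F) : Matrix ι ι F) - k) *ᵥ w0 = 0 := by
    rw [Matrix.sub_mulVec, ← Matrix.mulVec_mulVec, e1, ← Matrix.mulVec_mulVec, e2, sub_self]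
  have e4 : (y : Matrix ι ι F) * k * ((y⁻¹ : GL ι F) : Matrix ι ι F) - k = 0 := by
    by_contra hne
    obtain ⟨z, hz, hz1⟩ := hK.inv _ (K.sub_mem hk' hk) hne
    apply hw0'
    rw [← Matrix.one_mulVec w0, ← hz1, hK.comm _ (K.sub_mem hk' hk) z hz, ← Matrix.mulVec_mulVec, e3,
      Matrix.mulVec_zero]
  have e5 := sub_eq_zero.1 e4
  calc (y : Matrix ι ι F) * k = (y : Matrix ι ι F) * k * (((y⁻¹ : GL ι F) : Matrix ι ι F) * (y : Matrix ι ι F)) := by
        rw [← Units.val_mul, inv_mul_cancel, Units.val_one, Matrix.mul_one]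
    _ = k * (y : Matrix ι ι F) := by rw [← Matrix.mul_assoc, e5]

/-- `lam ^ 2 - 1` is injective on `V4` -/
theorem ZData.eq_zero (h : ZData f g lam w V4 C t) {v : ι → F} (hv : v ∈ V4) {a b : F} (ha : a ≠ 0)
    (h1 : a • ((lam : Matrix ι ι F) *ᵥ v) = b • v) : v = 0 := by
  have h2 : (lam : Matrix ι ι F) *ᵥ v = (a⁻¹ * b) • v := by
    rw [mul_smul, ← h1, smul_smul, inv_mul_cancel₀ ha, one_smul]
  have h3 := h.lam_sq v hv
  rw [h2, Matrix.mulVec_smul, h2, smul_smul, smul_smul] at h3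
  by_contra hv0
  apply h.irr (a⁻¹ * b)
  have h4 : ((a⁻¹ * b) * (a⁻¹ * b) - t * (a⁻¹ * b) + 1) • v = 0 := by
    rw [add_smul, sub_smul, h3, one_smul]
    abel
  exact (smul_eq_zero.1 h4).resolve_right hv0

theorem ZData.mem4 (h : ZData f g lam w V4 C t) {v : ι → F} (hv : v ∈ V4) {k : Matrix ι ι F}
    (hk : (g : Matrix ι ι F) * k = k * (g : Matrix ι ι F)) : k *ᵥ v ∈ V4 := by
  rw [h.fix] at hv ⊢
  rw [Matrix.mulVec_mulVec, hk, ← Matrix.mulVec_mulVec, hv]

theorem ZData.lam4 (h : ZData f g lam w V4 C t) {v : ι → F} (hv : v ∈ V4) : (lam : Matrix ι ι F) *ᵥ v ∈ V4 :=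
  h.mem4 hv (by rw [← Units.val_mul, h.glam, Units.val_mul])

theorem ZData.w4 (h : ZData f g lam w V4 C t) {v : ι → F} (hv : v ∈ V4) : (w : Matrix ι ι F) *ᵥ v ∈ V4 :=
  h.mem4 hv (by rw [← Units.val_mul, h.gw, Units.val_mul])

/-- no self-adjoint `k` agrees with `lam` on `V4` -/
theorem ZData.not_eq (h : ZData f g lam w V4 C t) {k : Matrix ι ι F} (hk : ∀ x y, f (k *ᵥ x) y = f x (k *ᵥ y))
    (he : ∀ v ∈ V4, k *ᵥ v = (lam : Matrix ι ι F) *ᵥ v) : False := by
  obtain ⟨y, hy, hy0⟩ := (Submodule.ne_bot_iff _).1 h.V4_ne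
  set z := (lam : Matrix ι ι F) *ᵥ ((lam : Matrix ι ι F) *ᵥ y) - y with hz
  have hz4 : z ∈ V4 := V4.sub_mem (h.lam4 (h.lam4 hy)) hy
  have hz0 : z ≠ 0 := by
    intro h0
    apply hy0
    rw [hz, h.lam_sq y hy] at h0
    by_cases ht : t = 0
    · rw [ht, zero_smul] at h0
      have h1 : (2 : F) • y = 0 := by
        rw [two_smul]
        have : (0 : ι → F) - y - y = 0 := h0
        rw [← neg_eq_zero, ← this]
        abel
      exact (smul_eq_zero.1 h1).resolve_left h.two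
    · apply h.eq_zero hy (a := t) (b := 2) ht
      rw [two_smul]
      rw [← sub_eq_zero, ← h0]
      abel
  obtain ⟨x, hx, hne⟩ := h.nd z hz4 hz0
  apply hne
  have e1 : f ((lam : Matrix ι ι F) *ᵥ x) ((lam : Matrix ι ι F) *ᵥ y) =
      f x ((lam : Matrix ι ι F) *ᵥ ((lam : Matrix ι ι F) *ᵥ y)) := by
    have := hk x ((lam : Matrix ι ι F) *ᵥ y)
    rwa [he x hx, he _ (h.lam4 hy)] at this
  have e2 : z = (lam : Matrix ι ι F) *ᵥ ((lam : Matrix ι ι F) *ᵥ y) + (-1 : F) • y := by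
    rw [hz, neg_smul, one_smul, sub_eq_add_neg]
  rw [e2, h.form.add_right, h.form.smul_right, ← e1, h.iso]
  ring

/-- an invariant subspace of `V4` which is not zero contains `C` -/
theorem ZData.C_le (h : ZData f g lam w V4 C t) {A : Submodule F (ι → F)} (hA4 : A ≤ V4) (hA0 : A ≠ ⊥)
    (hl : ∀ v ∈ A, (lam : Matrix ι ι F) *ᵥ v ∈ A) (hw : ∀ v ∈ A, (w : Matrix ι ι F) *ᵥ v ∈ A) : C ≤ A := by
  have hlC : ∀ v ∈ C, (lam : Matrix ι ι F) *ᵥ v ∈ C := by
    intro v hv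
    rw [h.mem_C] at hv ⊢
    refine ⟨h.lam4 hv.1, ?_⟩
    rw [Matrix.mulVec_mulVec, ← Units.val_mul, ← h.lamw, Units.val_mul, ← Matrix.mulVec_mulVec, hv.2]
  rcases h.C_irr (A ⊓ C) inf_le_right (fun v hv => ⟨hl v hv.1, hlC v hv.2⟩) with h1 | h1
  · exfalso
    obtain ⟨a, ha, ha0⟩ := (Submodule.ne_bot_iff _).1 hA0
    have h2 : (w : Matrix ι ι F) *ᵥ a - a ∈ A ⊓ C := ⟨A.sub_mem (hw a ha) ha, h.sub_mem a (hA4 ha)⟩
    rw [h1, Submodule.mem_bot, sub_eq_zero] at h2
    have h3 : a ∈ A ⊓ C := ⟨ha, (h.mem_C a).2 ⟨hA4 ha, h2⟩⟩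
    rw [h1, Submodule.mem_bot] at h3
    exact ha0 h3
  · rw [← h1]
    exact inf_le_left

/-- **the z-lemma** -/
theorem ZData.not_field (h : ZData f g lam w V4 C t) {K : Subalgebra F (Matrix ι ι F)} (hK : IsFieldSubalgebra 2 K)
    (hsa : IsSelfAdjointFor f K) (hg : g ∈ subalgebraNormalizer K) (hl : lam ∈ subalgebraNormalizer K)
    (hw : w ∈ subalgebraNormalizer K) : False := by
  have hgK : ∀ k ∈ K, (g : Matrix ι ι F) * k = k * (g : Matrix ι ι F) := fun k hk =>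
    Cfsg.Agent.H906.Cov.commute_of_coprime hK hg h.odd k hk
  have hlK := comm_of_triv hK h.ne_one hgK hl h.lam_one
  have hwK := comm_of_triv hK h.ne_one hgK hw h.w_one
  -- the two eigenspaces
  have main : ∀ k ∈ K, k * k - t • k + 1 = 0 → C ≤ (LinearMap.ker (Matrix.toLin' k - Matrix.toLin' (lam : Matrix ι ι F))) := by
    intro k hk hk2
    set A : Submodule F (ι → F) := V4 ⊓ LinearMap.ker (Matrix.toLin' k - Matrix.toLin' (lam : Matrix ι ι F)) with hA
    have memA : ∀ v, v ∈ A ↔ v ∈ V4 ∧ k *ᵥ v = (lam : Matrix ι ι F) *ᵥ v := by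
      intro v
      rw [hA, Submodule.mem_inf, LinearMap.mem_ker, LinearMap.sub_apply, sub_eq_zero, Matrix.toLin'_apply,
        Matrix.toLin'_apply]
    have hA0 : A ≠ ⊥ := by
      intro hA0
      -- `t - k` agrees with `lam` on `V4`
      have h1 : ∀ v ∈ V4, k *ᵥ v - (t • v - (lam : Matrix ι ι F) *ᵥ v) = 0 := by
        intro v hv
        have h2 : k *ᵥ v - (t • v - (lam : Matrix ι ι F) *ᵥ v) ∈ A := by
          rw [memA]
          refine ⟨V4.sub_mem (h.mem4 hv (hgK k hk)) (V4.sub_mem (V4.smul_mem t hv) (h.lam4 hv)), ?_⟩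
          have e1 : k *ᵥ (k *ᵥ v) = t • (k *ᵥ v) - v := by
            have : (k * k - t • k + 1) *ᵥ v = 0 := by rw [hk2, Matrix.zero_mulVec]
            rw [Matrix.add_mulVec, Matrix.sub_mulVec, Matrix.one_mulVec, ← Matrix.mulVec_mulVec,
              Matrix.smul_mulVec] at this
            rw [← sub_eq_zero, ← this]
            abel
          have e2 : (lam : Matrix ι ι F) *ᵥ (k *ᵥ v) = k *ᵥ ((lam : Matrix ι ι F) *ᵥ v) := by
            rw [Matrix.mulVec_mulVec, hlK k hk, ← Matrix.mulVec_mulVec]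
          rw [Matrix.mulVec_sub, Matrix.mulVec_sub, Matrix.mulVec_smul, e1, Matrix.mulVec_sub, Matrix.mulVec_sub,
            Matrix.mulVec_smul, e2, h.lam_sq v hv]
          abel
        rw [hA0, Submodule.mem_bot] at h2
        exact h2
      refine h.not_eq (k := t • (1 : Matrix ι ι F) - k) ?_ ?_
      · have h3 : t • (1 : Matrix ι ι F) - k ∈ K := K.sub_mem (K.smul_mem K.one_mem t) hk
        exact hsa _ h3
      · intro v hv
        have h3 := h1 v hv
        rw [Matrix.sub_mulVec, Matrix.smul_mulVec, Matrix.one_mulVec]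
        rw [← sub_eq_zero, ← neg_eq_zero, ← h3]
        abel
    have hCA : C ≤ A := by
      apply h.C_le (fun v hv => ((memA v).1 hv).1) hA0
      · intro v hv
        rw [memA] at hv ⊢
        refine ⟨h.lam4 hv.1, ?_⟩
        rw [Matrix.mulVec_mulVec, ← hlK k hk, ← Matrix.mulVec_mulVec, hv.2]
      · intro v hv
        rw [memA] at hv ⊢
        refine ⟨h.w4 hv.1, ?_⟩
        rw [Matrix.mulVec_mulVec, ← hwK k hk, ← Matrix.mulVec_mulVec, hv.2, Matrix.mulVec_mulVec, Matrix.mulVec_mulVec,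
          ← Units.val_mul, ← Units.val_mul, h.lamw]
    exact hCA.trans inf_le_right
  obtain ⟨k, hk, hk2⟩ := exists_root hK h.irr
  have hk' : t • (1 : Matrix ι ι F) - k ∈ K := K.sub_mem (K.smul_mem K.one_mem t) hk
  have hk2' : (t • (1 : Matrix ι ι F) - k) * (t • (1 : Matrix ι ι F) - k) - t • (t • (1 : Matrix ι ι F) - k) + 1 = 0 := by
    rw [← hk2]
    simp only [sub_mul, mul_sub, Matrix.smul_mul, Matrix.mul_smul, Matrix.one_mul, Matrix.mul_one, smul_sub]
    abel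
  obtain ⟨v, hv, hv0⟩ := (Submodule.ne_bot_iff _).1 h.C_ne
  apply hv0
  have h1 := main k hk hk2 hv
  have h2 := main _ hk' hk2' hv
  rw [LinearMap.mem_ker, LinearMap.sub_apply, sub_eq_zero, Matrix.toLin'_apply, Matrix.toLin'_apply] at h1 h2
  rw [Matrix.sub_mulVec, Matrix.smul_mulVec, Matrix.one_mulVec, h1] at h2
  apply h.eq_zero ((h.mem_C v).1 hv).1 (a := 2) (b := t) h.two
  rw [two_smul, ← sub_eq_iff_eq_add.1 h2]

end Z

end Cfsg.Agent.H248.Cov
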