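import Cfsg.Agent.ClassicalGeometry.SympBasic
import Cfsg.Agent.H248.Cov.ZLemma

/-!
# S2499: block elements of `Sp_{2(k + l)}(q)` and the element `z` of `Sp_4(q)`
-/

set_option autoImplicit false
set_option linter.unusedSectionVars false

namespace Cfsg.Agent.H248.Cov

open Cfsg Cfsg.Geo Matrix Cfsg.Agent.ClassicalGeometry.SympBasic
open scoped MatrixGroups

universe u

section Blk

variable {F : Type u} [Field F] {k l : ℕ}

/-- splitting of the coordinates -/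
def E (k l : ℕ) : (Fin k ⊕ Fin k) ⊕ (Fin l ⊕ Fin l) ≃ Fin (k + l) ⊕ Fin (k + l) :=
  (Equiv.sumSumSumComm (Fin k) (Fin k) (Fin l) (Fin l)).trans (Equiv.sumCongr finSumFinEquiv finSumFinEquiv)

/-- first part of a vector -/
def p1 (v : Fin (k + l) ⊕ Fin (k + l) → F) : Fin k ⊕ Fin k → F := fun i => v (E k l (Sum.inl i))

/-- second part of a vector -/
def p2 (v : Fin (k + l) ⊕ Fin (k + l) → F) : Fin l ⊕ Fin l → F := fun i => v (E k l (Sum.inr i))

/-- joining vectors -/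
def jn (a : Fin k ⊕ Fin k → F) (b : Fin l ⊕ Fin l → F) : Fin (k + l) ⊕ Fin (k + l) → F :=
  Sum.elim a b ∘ (E k l).symm

@[simp] theorem p1_jn (a : Fin k ⊕ Fin k → F) (b : Fin l ⊕ Fin l → F) : p1 (jn a b) = a := by
  funext i
  simp [p1, jn]

@[simp] theorem p2_jn (a : Fin k ⊕ Fin k → F) (b : Fin l ⊕ Fin l → F) : p2 (jn a b) = b := by
  funext i
  simp [p2, jn]

theorem ext_p {u v : Fin (k + l) ⊕ Fin (k + l) → F} (h1 : p1 u = p1 v) (h2 : p2 u = p2 v) : u = v := by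
  funext i
  obtain ⟨j, rfl⟩ := (E k l).surjective i
  rcases j with j | j
  · exact congrFun h1 j
  · exact congrFun h2 j

@[simp] theorem p1_add (u v : Fin (k + l) ⊕ Fin (k + l) → F) : p1 (u + v) = p1 u + p1 v := rfl
@[simp] theorem p2_add (u v : Fin (k + l) ⊕ Fin (k + l) → F) : p2 (u + v) = p2 u + p2 v := rfl
@[simp] theorem p1_sub (u v : Fin (k + l) ⊕ Fin (k + l) → F) : p1 (u - v) = p1 u - p1 v := rfl
@[simp] theorem p2_sub (u v : Fin (k + l) ⊕ Fin (k + l) → F) : p2 (u - v) = p2 u - p2 v := rfl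
@[simp] theorem p1_smul (c : F) (v : Fin (k + l) ⊕ Fin (k + l) → F) : p1 (c • v) = c • p1 v := rfl
@[simp] theorem p2_smul (c : F) (v : Fin (k + l) ⊕ Fin (k + l) → F) : p2 (c • v) = c • p2 v := rfl
@[simp] theorem p1_zero : p1 (0 : Fin (k + l) ⊕ Fin (k + l) → F) = 0 := rfl
@[simp] theorem p2_zero : p2 (0 : Fin (k + l) ⊕ Fin (k + l) → F) = 0 := rfl

theorem form_eq (u v : Fin (k + l) ⊕ Fin (k + l) → F) :
    sympForm (k + l) F u v = sympForm k F (p1 u) (p1 v) + sympForm l F (p2 u) (p2 v) := by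
  rw [sympForm_eq_sum, sympForm_eq_sum, sympForm_eq_sum, Fin.sum_univ_add]
  rfl

/-- block matrices -/
def blkM (k l : ℕ) (F : Type u) [Field F] :
    Matrix (Fin k ⊕ Fin k) (Fin k ⊕ Fin k) F × Matrix (Fin l ⊕ Fin l) (Fin l ⊕ Fin l) F →*
      Matrix (Fin (k + l) ⊕ Fin (k + l)) (Fin (k + l) ⊕ Fin (k + l)) F where
  toFun x := (fromBlocks x.1 0 0 x.2).submatrix (E k l).symm (E k l).symm
  map_one' := by
    rw [Prod.fst_one, Prod.snd_one, fromBlocks_one, Matrix.submatrix_one_equiv]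
  map_mul' x y := by
    rw [Matrix.submatrix_mul_equiv, fromBlocks_multiply]
    simp

/-- block matrices -/
def blk (k l : ℕ) (F : Type u) [Field F] :
    GL (Fin k ⊕ Fin k) F × GL (Fin l ⊕ Fin l) F →* GL (Fin (k + l) ⊕ Fin (k + l)) F :=
  (Units.map (blkM k l F)).comp (MulEquiv.prodUnits.symm).toMonoidHom

theorem coe_blk (a : GL (Fin k ⊕ Fin k) F) (b : GL (Fin l ⊕ Fin l) F) :
    (blk k l F (a, b) : Matrix (Fin (k + l) ⊕ Fin (k + l)) (Fin (k + l) ⊕ Fin (k + l)) F) =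
      (fromBlocks (a : Matrix (Fin k ⊕ Fin k) (Fin k ⊕ Fin k) F) 0 0 (b : Matrix (Fin l ⊕ Fin l) (Fin l ⊕ Fin l) F)).submatrix
        (E k l).symm (E k l).symm := rfl

theorem blk_mulVec (a : GL (Fin k ⊕ Fin k) F) (b : GL (Fin l ⊕ Fin l) F) (v : Fin (k + l) ⊕ Fin (k + l) → F) :
    (blk k l F (a, b) : Matrix (Fin (k + l) ⊕ Fin (k + l)) (Fin (k + l) ⊕ Fin (k + l)) F) *ᵥ v =
      jn ((a : Matrix (Fin k ⊕ Fin k) (Fin k ⊕ Fin k) F) *ᵥ p1 v) ((b : Matrix (Fin l ⊕ Fin l) (Fin l ⊕ Fin l) F) *ᵥ p2 v) := by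
  rw [coe_blk, Matrix.submatrix_mulVec_equiv, Equiv.symm_symm, fromBlocks_mulVec]
  simp only [Matrix.zero_mulVec, add_zero, zero_add]
  rfl

@[simp] theorem p1_blk (a : GL (Fin k ⊕ Fin k) F) (b : GL (Fin l ⊕ Fin l) F) (v : Fin (k + l) ⊕ Fin (k + l) → F) :
    p1 ((blk k l F (a, b) : Matrix (Fin (k + l) ⊕ Fin (k + l)) (Fin (k + l) ⊕ Fin (k + l)) F) *ᵥ v) =
      (a : Matrix (Fin k ⊕ Fin k) (Fin k ⊕ Fin k) F) *ᵥ p1 v := by
  rw [blk_mulVec, p1_jn]

@[simp] theorem p2_blk (a : GL (Fin k ⊕ Fin k) F) (b : GL (Fin l ⊕ Fin l) F) (v : Fin (k + l) ⊕ Fin (k + l) → F) :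
    p2 ((blk k l F (a, b) : Matrix (Fin (k + l) ⊕ Fin (k + l)) (Fin (k + l) ⊕ Fin (k + l)) F) *ᵥ v) =
      (b : Matrix (Fin l ⊕ Fin l) (Fin l ⊕ Fin l) F) *ᵥ p2 v := by
  rw [blk_mulVec, p2_jn]

theorem mem_spGL {n : ℕ} {g : GL (Fin n ⊕ Fin n) F} :
    g ∈ spGL n F ↔ ∀ u v, sympForm n F ((g : Matrix (Fin n ⊕ Fin n) (Fin n ⊕ Fin n) F) *ᵥ u)
      ((g : Matrix (Fin n ⊕ Fin n) (Fin n ⊕ Fin n) F) *ᵥ v) = sympForm n F u v := Iff.rfl

theorem blk_mem {a : GL (Fin k ⊕ Fin k) F} {b : GL (Fin l ⊕ Fin l) F} (ha : a ∈ spGL k F) (hb : b ∈ spGL l F) :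
    blk k l F (a, b) ∈ spGL (k + l) F := by
  rw [mem_spGL] at ha hb ⊢
  intro u v
  rw [form_eq, p1_blk, p1_blk, p2_blk, p2_blk, ha, hb, ← form_eq]

theorem blk_injective : Function.Injective (blk k l F) := by
  rintro ⟨a, b⟩ ⟨a', b'⟩ h
  have h1 := congrArg Units.val h
  rw [coe_blk, coe_blk] at h1
  have h2 : fromBlocks (a : Matrix (Fin k ⊕ Fin k) (Fin k ⊕ Fin k) F) 0 0 (b : Matrix (Fin l ⊕ Fin l) (Fin l ⊕ Fin l) F) =
      fromBlocks (a' : Matrix (Fin k ⊕ Fin k) (Fin k ⊕ Fin k) F) 0 0 (b' : Matrix (Fin l ⊕ Fin l) (Fin l ⊕ Fin l) F) := by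
    have := congrArg (fun M => Matrix.submatrix M (E k l) (E k l)) h1
    simpa using this
  rw [fromBlocks_inj] at h2
  exact Prod.ext (Units.ext h2.1) (Units.ext h2.2.2.2)

end Blk

section Z4

variable {F : Type u} [Field F]

/-- a polynomial `X ^ 2 - t X + 1` without roots -/
theorem exists_t (F : Type u) [Field F] [Finite F] : ∃ t : F, ∀ c : F, c * c - t * c + 1 ≠ 0 := by
  have : Fintype F := Fintype.ofFinite F
  classical
  let φ : Fˣ → F := fun c => (c : F) + (c : F)⁻¹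
  have h1 : ¬ Function.Surjective φ := by
    intro hs
    have := Fintype.card_le_of_surjective φ hs
    rw [Fintype.card_units] at this
    have h2 := Fintype.card_pos (α := F)
    omega
  rw [Function.Surjective] at h1
  push Not at h1
  obtain ⟨t, ht⟩ := h1
  refine ⟨t, fun c hc => ?_⟩
  have hc0 : c ≠ 0 := by
    rintro rfl
    simp at hc
  apply ht (Units.mk0 c hc0)
  change c + c⁻¹ = t
  field_simp
  linear_combination hc

/-- the matrix of `lam` -/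
def LM (t : F) : Matrix (Fin 2 ⊕ Fin 2) (Fin 2 ⊕ Fin 2) F := fromBlocks !![0, -1; 1, t] 0 0 !![t, -1; 1, 0]

/-- the inverse of `lam` -/
def LMi (t : F) : Matrix (Fin 2 ⊕ Fin 2) (Fin 2 ⊕ Fin 2) F := fromBlocks !![t, 1; -1, 0] 0 0 !![0, 1; -1, t]

/-- the matrix of `w` -/
def UM (t : F) : Matrix (Fin 2 ⊕ Fin 2) (Fin 2 ⊕ Fin 2) F := fromBlocks 1 !![2, -t; -t, 2] 0 1

/-- the inverse of `w` -/
def UMi (t : F) : Matrix (Fin 2 ⊕ Fin 2) (Fin 2 ⊕ Fin 2) F := fromBlocks 1 !![-2, t; t, -2] 0 1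

theorem LM_mul (t : F) : LM t * LMi t = 1 := by
  rw [LM, LMi, fromBlocks_multiply]
  simp [← Matrix.one_fin_two]

theorem LMi_mul (t : F) : LMi t * LM t = 1 := by
  rw [LM, LMi, fromBlocks_multiply]
  simp [← Matrix.one_fin_two]

theorem UM_mul (t : F) : UM t * UMi t = 1 := by
  rw [UM, UMi, fromBlocks_multiply]
  simp [← Matrix.ext_iff]

theorem UMi_mul (t : F) : UMi t * UM t = 1 := by
  rw [UM, UMi, fromBlocks_multiply]
  simp [← Matrix.ext_iff]

/-- the element `lam` of `Sp_4(q)` -/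
def L4 (t : F) : GL (Fin 2 ⊕ Fin 2) F := ⟨LM t, LMi t, LM_mul t, LMi_mul t⟩

/-- the element `w` of `Sp_4(q)` -/
def U4 (t : F) : GL (Fin 2 ⊕ Fin 2) F := ⟨UM t, UMi t, UM_mul t, UMi_mul t⟩

theorem L4_mulVec (t : F) (v : Fin 2 ⊕ Fin 2 → F) :
    (L4 t : Matrix (Fin 2 ⊕ Fin 2) (Fin 2 ⊕ Fin 2) F) *ᵥ v =
      Sum.elim ![- v (Sum.inl 1), v (Sum.inl 0) + t * v (Sum.inl 1)] ![t * v (Sum.inr 0) - v (Sum.inr 1), v (Sum.inr 0)] := by
  change LM t *ᵥ v = _
  rw [LM, fromBlocks_mulVec]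
  funext i
  rcases i with i | i <;> fin_cases i <;> simp [Matrix.mulVec, dotProduct, Fin.sum_univ_two]
  ring

theorem U4_mulVec (t : F) (v : Fin 2 ⊕ Fin 2 → F) :
    (U4 t : Matrix (Fin 2 ⊕ Fin 2) (Fin 2 ⊕ Fin 2) F) *ᵥ v =
      Sum.elim ![v (Sum.inl 0) + (2 * v (Sum.inr 0) - t * v (Sum.inr 1)),
        v (Sum.inl 1) + (2 * v (Sum.inr 1) - t * v (Sum.inr 0))] ![v (Sum.inr 0), v (Sum.inr 1)] := by
  change UM t *ᵥ v = _
  rw [UM, fromBlocks_mulVec]
  funext i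
  rcases i with i | i <;> fin_cases i <;> simp [dotProduct, Fin.sum_univ_two, Matrix.vecHead, Matrix.vecTail]
  all_goals ring

theorem form4 (u v : Fin 2 ⊕ Fin 2 → F) : sympForm 2 F u v =
    (u (Sum.inr 0) * v (Sum.inl 0) - u (Sum.inl 0) * v (Sum.inr 0)) +
      (u (Sum.inr 1) * v (Sum.inl 1) - u (Sum.inl 1) * v (Sum.inr 1)) := by
  rw [sympForm_eq_sum, Fin.sum_univ_two]

theorem L4_mem (t : F) : L4 t ∈ spGL 2 F := by
  rw [mem_spGL]
  intro u v
  rw [form4, form4, L4_mulVec, L4_mulVec]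
  simp
  ring

theorem U4_mem (t : F) : U4 t ∈ spGL 2 F := by
  rw [mem_spGL]
  intro u v
  rw [form4, form4, U4_mulVec, U4_mulVec]
  simp
  ring

theorem eq_of_mulVec {ι : Type} [Fintype ι] [DecidableEq ι] {x y : GL ι F}
    (h : ∀ v, (x : Matrix ι ι F) *ᵥ v = (y : Matrix ι ι F) *ᵥ v) : x = y := by
  apply Units.ext
  apply Matrix.toLin'.injective
  apply LinearMap.ext
  intro v
  rw [Matrix.toLin'_apply, Matrix.toLin'_apply, h]

theorem ext4 {u v : Fin 2 ⊕ Fin 2 → F} (h1 : u (Sum.inl 0) = v (Sum.inl 0)) (h2 : u (Sum.inl 1) = v (Sum.inl 1))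
    (h3 : u (Sum.inr 0) = v (Sum.inr 0)) (h4 : u (Sum.inr 1) = v (Sum.inr 1)) : u = v := by
  funext i
  rcases i with i | i <;> fin_cases i
  · exact h1
  · exact h2
  · exact h3
  · exact h4

theorem L4_U4 (t : F) : L4 t * U4 t = U4 t * L4 t := by
  apply eq_of_mulVec
  intro v
  rw [Units.val_mul, Units.val_mul, ← Matrix.mulVec_mulVec, ← Matrix.mulVec_mulVec, L4_mulVec, U4_mulVec, L4_mulVec,
    U4_mulVec]
  apply ext4 <;> simp
  all_goals ring

theorem L4_sq (t : F) (v : Fin 2 ⊕ Fin 2 → F) :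
    (L4 t : Matrix (Fin 2 ⊕ Fin 2) (Fin 2 ⊕ Fin 2) F) *ᵥ ((L4 t : Matrix (Fin 2 ⊕ Fin 2) (Fin 2 ⊕ Fin 2) F) *ᵥ v) =
      t • ((L4 t : Matrix (Fin 2 ⊕ Fin 2) (Fin 2 ⊕ Fin 2) F) *ᵥ v) - v := by
  rw [L4_mulVec, L4_mulVec]
  apply ext4 <;> simp
  all_goals ring

theorem four_sub {t : F} (h2 : (2 : F) ≠ 0) (ht : ∀ c : F, c * c - t * c + 1 ≠ 0) : 4 - t * t ≠ 0 := by
  intro h
  apply ht (t / 2)
  field_simp
  linear_combination h

theorem U4_fix {t : F} (h2 : (2 : F) ≠ 0) (ht : ∀ c : F, c * c - t * c + 1 ≠ 0) (v : Fin 2 ⊕ Fin 2 → F) :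
    (U4 t : Matrix (Fin 2 ⊕ Fin 2) (Fin 2 ⊕ Fin 2) F) *ᵥ v = v ↔ v (Sum.inr 0) = 0 ∧ v (Sum.inr 1) = 0 := by
  rw [U4_mulVec]
  constructor
  · intro h
    have h3 := congrFun h (Sum.inl 0)
    have h4 := congrFun h (Sum.inl 1)
    simp at h3 h4
    have h5 := four_sub h2 ht
    constructor
    · apply (mul_eq_zero.1 (show (4 - t * t) * v (Sum.inr 0) = 0 by linear_combination 2 * h3 + t * h4)).resolve_left h5
    · apply (mul_eq_zero.1 (show (4 - t * t) * v (Sum.inr 1) = 0 by linear_combination t * h3 + 2 * h4)).resolve_left h5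
  · rintro ⟨h3, h4⟩
    apply ext4 <;> simp [h3, h4]

theorem U4_sub (t : F) (v : Fin 2 ⊕ Fin 2 → F) :
    ((U4 t : Matrix (Fin 2 ⊕ Fin 2) (Fin 2 ⊕ Fin 2) F) *ᵥ v - v) (Sum.inr 0) = 0 ∧
      ((U4 t : Matrix (Fin 2 ⊕ Fin 2) (Fin 2 ⊕ Fin 2) F) *ᵥ v - v) (Sum.inr 1) = 0 := by
  rw [U4_mulVec]
  simp

/-- `lam` is irreducible on the fixed space of `w` -/
theorem irr4 {t : F} (ht : ∀ c : F, c * c - t * c + 1 ≠ 0) {v : Fin 2 ⊕ Fin 2 → F} (hv0 : v ≠ 0)
    (h3 : v (Sum.inr 0) = 0) (h4 : v (Sum.inr 1) = 0) (x : Fin 2 ⊕ Fin 2 → F) (x3 : x (Sum.inr 0) = 0)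
    (x4 : x (Sum.inr 1) = 0) : ∃ a b : F, x = a • v + b • ((L4 t : Matrix (Fin 2 ⊕ Fin 2) (Fin 2 ⊕ Fin 2) F) *ᵥ v) := by
  set a := v (Sum.inl 0) with ha
  set b := v (Sum.inl 1) with hb
  have hD : a * a + t * a * b + b * b ≠ 0 := by
    intro h
    by_cases hb0 : b = 0
    · rw [hb0] at h
      have ha0 : a = 0 := by
        have : a * a = 0 := by linear_combination h
        exact mul_self_eq_zero.1 this
      apply hv0
      apply ext4
      · exact ha0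
      · exact hb0
      · exact h3
      · exact h4
    · apply ht (-(a / b))
      field_simp
      linear_combination h
  obtain ⟨e, he⟩ : ∃ e, (a * a + t * a * b + b * b) * e = 1 := ⟨_, mul_inv_cancel₀ hD⟩
  refine ⟨(x (Sum.inl 0) * (a + t * b) + x (Sum.inl 1) * b) * e,
    (x (Sum.inl 1) * a - x (Sum.inl 0) * b) * e, ?_⟩
  rw [L4_mulVec]
  apply ext4
  · change x (Sum.inl 0) = (x (Sum.inl 0) * (a + t * b) + x (Sum.inl 1) * b) * e * a +
      (x (Sum.inl 1) * a - x (Sum.inl 0) * b) * e * (-b)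
    linear_combination (-x (Sum.inl 0)) * he
  · change x (Sum.inl 1) = (x (Sum.inl 0) * (a + t * b) + x (Sum.inl 1) * b) * e * b +
      (x (Sum.inl 1) * a - x (Sum.inl 0) * b) * e * (a + t * b)
    linear_combination (-x (Sum.inl 1)) * he
  · simp [h3, h4, x3]
  · simp [h3, h4, x4]

end Z4

section Main

variable {F : Type u} [Field F] [Finite F] {k : ℕ}

/-- the space `V4` -/
def V4 (k : ℕ) (F : Type u) [Field F] : Submodule F (Fin (k + 2) ⊕ Fin (k + 2) → F) where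
  carrier := {v | p1 v = 0}
  add_mem' := fun {a b} ha hb => by
    change p1 (a + b) = 0
    rw [p1_add, show p1 a = 0 from ha, show p1 b = 0 from hb, add_zero]
  zero_mem' := rfl
  smul_mem' := fun c v hv => by
    change p1 (c • v) = 0
    rw [p1_smul, show p1 v = 0 from hv, smul_zero]

theorem mem_V4 {v : Fin (k + 2) ⊕ Fin (k + 2) → F} : v ∈ V4 k F ↔ p1 v = 0 := Iff.rfl

/-- the space `C` -/
def C2 (k : ℕ) (F : Type u) [Field F] : Submodule F (Fin (k + 2) ⊕ Fin (k + 2) → F) where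
  carrier := {v | p1 v = 0 ∧ p2 v (Sum.inr 0) = 0 ∧ p2 v (Sum.inr 1) = 0}
  add_mem' := fun {a b} ha hb => by
    refine ⟨?_, ?_, ?_⟩
    · rw [p1_add, ha.1, hb.1, add_zero]
    · rw [p2_add, Pi.add_apply, ha.2.1, hb.2.1, add_zero]
    · rw [p2_add, Pi.add_apply, ha.2.2, hb.2.2, add_zero]
  zero_mem' := ⟨rfl, rfl, rfl⟩
  smul_mem' := fun c v hv => by
    refine ⟨?_, ?_, ?_⟩
    · rw [p1_smul, hv.1, smul_zero]
    · rw [p2_smul, Pi.smul_apply, hv.2.1, smul_zero]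
    · rw [p2_smul, Pi.smul_apply, hv.2.2, smul_zero]

theorem mem_C2 {v : Fin (k + 2) ⊕ Fin (k + 2) → F} :
    v ∈ C2 k F ↔ p1 v = 0 ∧ p2 v (Sum.inr 0) = 0 ∧ p2 v (Sum.inr 1) = 0 := Iff.rfl

/-- `f` vanishes on `C` -/
theorem C2_ts {u v : Fin (k + 2) ⊕ Fin (k + 2) → F} (hu : u ∈ C2 k F) (hv : v ∈ C2 k F) :
    sympForm (k + 2) F u v = 0 := by
  rw [form_eq, hu.1, hv.1, sympForm_zero_left, form4, hu.2.1, hu.2.2, hv.2.1, hv.2.2]
  ring

/-- **the data of the z-lemma in `Sp_{2(k+2)}(q)`** -/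
theorem zdata {a : GL (Fin k ⊕ Fin k) F} (h2 : (2 : F) ≠ 0) (hao : Odd (orderOf a)) (ha1 : a ≠ 1)
    (hfix : ∀ v, (a : Matrix (Fin k ⊕ Fin k) (Fin k ⊕ Fin k) F) *ᵥ v = v → v = 0) {t : F}
    (ht : ∀ c : F, c * c - t * c + 1 ≠ 0) :
    ZData (sympForm (k + 2) F) (blk k 2 F (a, 1)) (blk k 2 F (1, L4 t)) (blk k 2 F (1, U4 t)) (V4 k F) (C2 k F) t where
  two := h2
  form := ⟨fun x y v => sympForm_add_left x y v, fun c x v => sympForm_smul_left c x v,
    fun v x y => sympForm_add_right v x y, fun c v x => sympForm_smul_right c v x⟩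
  odd := by
    have h1 : orderOf (blk k 2 F (a, 1)) = orderOf a := by
      rw [orderOf_injective _ blk_injective, Prod.orderOf_mk, orderOf_one, Nat.lcm_one_right]
    rw [h1]
    exact Nat.coprime_two_right.2 hao
  ne_one := by
    intro h
    apply ha1
    have h1 : blk k 2 F (a, 1) = blk k 2 F (1, 1) := by rw [h]; exact (map_one (blk k 2 F)).symm
    exact congrArg Prod.fst (blk_injective h1)
  fix := fun v => by
    rw [mem_V4]
    constructor
    · intro h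
      apply ext_p
      · rw [p1_blk, h, Matrix.mulVec_zero]
      · rw [p2_blk, Units.val_one, Matrix.one_mulVec]
    · intro h
      apply hfix
      rw [← p1_blk a 1, h]
  lam_one := fun v => by
    apply ext_p
    · rw [p1_blk, Units.val_one, Matrix.one_mulVec]
    · rw [p2_blk, p2_sub, p2_blk, Units.val_one, Matrix.one_mulVec, sub_self, Matrix.mulVec_zero]
  w_one := fun v => by
    apply ext_p
    · rw [p1_blk, Units.val_one, Matrix.one_mulVec]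
    · rw [p2_blk, p2_sub, p2_blk, Units.val_one, Matrix.one_mulVec, sub_self, Matrix.mulVec_zero]
  glam := by
    rw [← map_mul, ← map_mul]
    simp
  gw := by
    rw [← map_mul, ← map_mul]
    simp
  lamw := by
    rw [← map_mul, ← map_mul, Prod.mk_mul_mk, Prod.mk_mul_mk, L4_U4]
  irr := ht
  lam_sq := fun v hv => by
    rw [mem_V4] at hv
    apply ext_p
    · rw [p1_sub, p1_smul, p1_blk, p1_blk, hv]
      simp
    · rw [p2_sub, p2_smul, p2_blk, p2_blk, L4_sq]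
  iso := mem_spGL.1 (blk_mem (Subgroup.one_mem _) (L4_mem t))
  nd := fun v hv hv0 => by
    rw [mem_V4] at hv
    by_contra hcon
    push Not at hcon
    apply hv0
    apply ext_p
    · rw [hv, p1_zero]
    · rw [p2_zero]
      apply eq_zero_of_forall_sympForm_left
      intro u
      have h1 := hcon (jn 0 u) (by rw [mem_V4, p1_jn])
      rwa [form_eq, p1_jn, p2_jn, sympForm_zero_left, zero_add] at h1
  mem_C := fun v => by
    rw [mem_C2, mem_V4]
    constructor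
    · rintro ⟨h1, h3⟩
      refine ⟨h1, ext_p ?_ ?_⟩
      · rw [p1_blk, Units.val_one, Matrix.one_mulVec]
      · rw [p2_blk]
        exact (U4_fix h2 ht _).2 h3
    · rintro ⟨h1, h3⟩
      refine ⟨h1, (U4_fix h2 ht _).1 ?_⟩
      rw [← p2_blk 1, h3]
  sub_mem := fun v hv => by
    rw [mem_V4] at hv
    refine ⟨?_, ?_⟩
    · rw [p1_sub, p1_blk, hv, Matrix.mulVec_zero, sub_zero]
    · have h1 := U4_sub t (p2 v)
      rw [p2_sub, p2_blk]
      exact h1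
  C_ne := by
    intro h
    have h1 : (jn 0 (Pi.single (Sum.inl 0) 1) : Fin (k + 2) ⊕ Fin (k + 2) → F) ∈ C2 k F := by
      refine ⟨p1_jn _ _, ?_, ?_⟩
      · rw [p2_jn]; simp
      · rw [p2_jn]; simp
    rw [h, Submodule.mem_bot] at h1
    have h3 := congrArg p2 h1
    rw [p2_jn, p2_zero] at h3
    have := congrFun h3 (Sum.inl 0)
    simp at this
  V4_ne := by
    intro h
    have h1 : (jn 0 (Pi.single (Sum.inl 0) 1) : Fin (k + 2) ⊕ Fin (k + 2) → F) ∈ V4 k F := by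
      rw [mem_V4, p1_jn]
    rw [h, Submodule.mem_bot] at h1
    have h3 := congrArg p2 h1
    rw [p2_jn, p2_zero] at h3
    have := congrFun h3 (Sum.inl 0)
    simp at this
  C_irr := fun W hW hl => by
    by_cases hW0 : W = ⊥
    · exact Or.inl hW0
    · right
      obtain ⟨v, hv, hv0⟩ := (Submodule.ne_bot_iff _).1 hW0
      obtain ⟨c1, c2, c3⟩ := hW hv
      have hp0 : p2 v ≠ 0 := by
        intro h
        apply hv0
        apply ext_p
        · rw [c1, p1_zero]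
        · rw [h, p2_zero]
      refine le_antisymm hW fun x hx => ?_
      obtain ⟨x1, x2, x3⟩ := hx
      obtain ⟨α, β, hab⟩ := irr4 ht hp0 c2 c3 (p2 x) x2 x3
      have h1 : x = α • v + β • ((blk k 2 F (1, L4 t) : Matrix (Fin (k + 2) ⊕ Fin (k + 2)) (Fin (k + 2) ⊕ Fin (k + 2)) F) *ᵥ v) := by
        apply ext_p
        · rw [x1, p1_add, p1_smul, p1_smul, p1_blk, c1]
          simp
        · rw [hab, p2_add, p2_smul, p2_smul, p2_blk]
      rw [h1]
      exact W.add_mem (W.smul_mem _ hv) (W.smul_mem _ (hl v hv))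

end Main

end Cfsg.Agent.H248.Cov
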