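import Cfsg.Agent.S0799
import Cfsg.Agent.S0813
import Cfsg.Agent.H394.SqPsl2
import Cfsg.Agent.H436.TTPsl2
import Cfsg.Agent.H884.ElNum

/-!
# S2499: two subgroups of order `r` of `PSL_2(p ^ N)`, `r` a primitive prime of `p ^ (2 N) - 1`
-/

set_option autoImplicit false
set_option linter.unusedSectionVars false

namespace Cfsg.Agent.H248.Cov

open Cfsg Cfsg.Agent.H884.El
open scoped MatrixGroups

theorem zpowers_eq_of_cyclic {C : Type*} [Group C] [Finite C] [IsCyclic C] {x y : C} (h : orderOf x = orderOf y) :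
    Subgroup.zpowers x = Subgroup.zpowers y := by
  classical
  have : Fintype C := Fintype.ofFinite C
  have key : ∀ z : C, orderOf z = orderOf x → (Subgroup.zpowers z : Set C) = {c : C | c ^ orderOf x = 1} := by
    intro z hz
    refine Set.eq_of_subset_of_ncard_le ?_ ?_ (Set.toFinite _)
    · rintro c ⟨n, rfl⟩
      change (z ^ n) ^ orderOf x = 1
      rw [← hz, ← zpow_natCast, ← zpow_mul, mul_comm, zpow_mul, zpow_natCast, pow_orderOf_eq_one, one_zpow]
    · have h1 := IsCyclic.card_pow_eq_one_le (α := C) (orderOf_pos x)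
      have h2 : ({c : C | c ^ orderOf x = 1} : Set C).ncard = (Finset.univ.filter fun c : C => c ^ orderOf x = 1).card := by
        rw [← Set.ncard_coe_finset]
        congr 1
        ext c
        simp
      rw [h2, ← Nat.card_coe_set_eq, SetLike.coe_sort_coe, Nat.card_zpowers, hz]
      exact h1
  apply SetLike.coe_injective
  rw [key x rfl, key y h.symm]

theorem zpowers_eq_of_mem_cyclic {G : Type*} [Group G] {C : Subgroup G} [Finite C] (hC : IsCyclic C) {x y : G}
    (hx : x ∈ C) (hy : y ∈ C) (h : orderOf x = orderOf y) : Subgroup.zpowers x = Subgroup.zpowers y := by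
  have h1 : orderOf (⟨x, hx⟩ : C) = orderOf (⟨y, hy⟩ : C) := by
    rw [Subgroup.orderOf_mk, Subgroup.orderOf_mk, h]
  have h2 := congrArg (Subgroup.map C.subtype) (zpowers_eq_of_cyclic h1)
  rwa [MonoidHom.map_zpowers, MonoidHom.map_zpowers] at h2

/-- elements of odd prime order of a dihedral group -/
theorem dihedral_zpowers {k r : ℕ} (hk : k ≠ 0) (hr : r.Prime) (hr2 : r ≠ 2) {x y : DihedralGroup k}
    (hx : orderOf x = r) (hy : orderOf y = r) : Subgroup.zpowers x = Subgroup.zpowers y := by
  have : NeZero k := ⟨hk⟩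
  have hfin : Finite (DihedralGroup k) := inferInstance
  have key : ∀ z : DihedralGroup k, orderOf z = r → z ∈ Subgroup.zpowers (DihedralGroup.r 1 : DihedralGroup k) := by
    intro z hz
    rcases z with i | i
    · refine ⟨(i.val : ℤ), ?_⟩
      change (DihedralGroup.r 1 : DihedralGroup k) ^ (i.val : ℤ) = _
      rw [zpow_natCast, DihedralGroup.r_one_pow]
      simp
    · exfalso
      rw [DihedralGroup.orderOf_sr] at hz
      exact hr2 hz.symm
  exact zpowers_eq_of_mem_cyclic (inferInstance : IsCyclic (Subgroup.zpowers (DihedralGroup.r 1 : DihedralGroup k)))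
    (key x hx) (key y hy) (hx.trans hy.symm)

variable {K : Type*} [Field K] [Fintype K] {p N r : ℕ} [hp : Fact p.Prime] [CharP K p]

/-- **two elements of order `r`** -/
theorem dickson_pp (hK : Fintype.card K = p ^ N) (hN : 1 ≤ N) (hr : PP p (2 * N) r) (h7 : 7 ≤ r)
    {x y : Matrix.ProjectiveSpecialLinearGroup (Fin 2) K} (hx : orderOf x = r) (hy : orderOf y = r) :
    Subgroup.closure {x, y} = ⊤ ∨ Subgroup.zpowers x = Subgroup.zpowers y := by
  classical
  set M := Subgroup.closure {x, y} with hM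
  have hxM : x ∈ M := Subgroup.subset_closure (by simp)
  have hyM : y ∈ M := Subgroup.subset_closure (by simp)
  have hrp := Fact.mk hr.prime
  have hfinP : Finite (Matrix.ProjectiveSpecialLinearGroup (Fin 2) K) := Quotient.finite _
  have hrM : r ∣ Nat.card M := by
    rw [← hx, ← Subgroup.orderOf_mk x hxM]
    exact orderOf_dvd_natCard _
  have hK1 : 1 < Fintype.card K := Fintype.one_lt_card
  have hcardP := Cfsg.Agent.H394.SqPsl2.card_psl (F := K)
  have hrq : ¬ r ∣ Fintype.card K := by
    rw [hK]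
    intro h
    exact hr.not_dvd (by omega) (hr.prime.dvd_of_dvd_pow h)
  have hmap : ∀ {x' y' : M}, orderOf x' = orderOf y' → (x' : Matrix.ProjectiveSpecialLinearGroup (Fin 2) K) = x →
      (y' : Matrix.ProjectiveSpecialLinearGroup (Fin 2) K) = y → Subgroup.zpowers x' = Subgroup.zpowers y' →
      Subgroup.zpowers x = Subgroup.zpowers y := by
    intro x' y' _ hx' hy' h
    have h2 := congrArg (Subgroup.map M.subtype) h
    rw [MonoidHom.map_zpowers, MonoidHom.map_zpowers] at h2
    change Subgroup.zpowers (x' : Matrix.ProjectiveSpecialLinearGroup (Fin 2) K) =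
      Subgroup.zpowers (y' : Matrix.ProjectiveSpecialLinearGroup (Fin 2) K) at h2
    rwa [hx', hy'] at h2
  have ox : orderOf (⟨x, hxM⟩ : M) = r := by rw [Subgroup.orderOf_mk, hx]
  have oy : orderOf (⟨y, hyM⟩ : M) = r := by rw [Subgroup.orderOf_mk, hy]
  have htop : Nat.card (Matrix.ProjectiveSpecialLinearGroup (Fin 2) K) ≤ Nat.card M → M = ⊤ := by
    intro h
    exact Subgroup.eq_top_of_le_card M h
  rcases Cfsg.Agent.S0799.result hK p M with ⟨k, -, hk⟩ | ⟨P, K', hK', ⟨e⟩⟩ | ⟨⟨e⟩⟩ | ⟨⟨e⟩⟩ | ⟨⟨e⟩⟩ | ⟨K', iK, iK', m, hm, he⟩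
  · right
    rcases hk with ⟨hc, -⟩ | ⟨⟨e⟩⟩
    · exact hmap (ox.trans oy.symm) rfl rfl (zpowers_eq_of_cyclic (ox.trans oy.symm))
    · have hk0 : k ≠ 0 := by
        rintro rfl
        have h1 : Finite (DihedralGroup 0) := Finite.of_equiv _ e.toEquiv
        have h2 := DihedralGroup.nat_card (n := 0)
        rw [mul_zero] at h2
        have h3 := Nat.card_pos (α := DihedralGroup 0)
        omega
      have h1 := dihedral_zpowers hk0 hr.prime (by omega) (x := e ⟨x, hxM⟩) (y := e ⟨y, hyM⟩)
        (by rw [MulEquiv.orderOf_eq, ox]) (by rw [MulEquiv.orderOf_eq, oy])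
      refine hmap (ox.trans oy.symm) rfl rfl ?_
      have h2 := congrArg (Subgroup.map e.symm.toMonoidHom) h1
      rw [MonoidHom.map_zpowers, MonoidHom.map_zpowers] at h2
      simpa using h2
  · exfalso
    rw [Nat.card_congr e.toEquiv] at hrM
    have h1 := hrM.trans (Subgroup.card_dvd_of_le hK')
    have h2 := (Subgroup.normalizer ((P : Subgroup (Matrix.ProjectiveSpecialLinearGroup (Fin 2) K)) :
      Set (Matrix.ProjectiveSpecialLinearGroup (Fin 2) K))).card_mul_index
    rw [Cfsg.Agent.H436.TT.index_normalizer p P] at h2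
    rw [← h2, Cfsg.Agent.H394.SqPsl2.sub_mul_self hK1.le, ← mul_assoc, mul_comm (Fintype.card K + 1) (Fintype.card K - 1),
      ← mul_assoc] at hcardP
    have h3 := Nat.eq_of_mul_eq_mul_right (by omega) hcardP
    have h4 : r ∣ Fintype.card K * (Fintype.card K - 1) := by
      rw [← h3]
      exact Dvd.dvd.mul_left h1 _
    rcases hr.prime.dvd_mul.1 h4 with h5 | h5
    · exact hrq h5
    · rw [hK, hr.dvd_iff hp.out.one_lt.le] at h5
      have := Nat.le_of_dvd (by omega) h5
      omega
  · exfalso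
    rw [Nat.card_congr e.toEquiv] at hrM
    have h1 : Nat.card (alternatingGroup (Fin 4)) = 12 := by
      rw [Nat.card_eq_fintype_card]; decide
    rw [h1] at hrM
    have := Nat.le_of_dvd (by norm_num) hrM
    interval_cases r <;> revert hrM <;> first | decide | (intro; exact absurd hr.prime (by norm_num))
  · exfalso
    rw [Nat.card_congr e.toEquiv, Nat.card_perm, Nat.card_fin] at hrM
    have h1 := (hr.prime.dvd_factorial).1 hrM
    omega
  · exfalso
    rw [Nat.card_congr e.toEquiv] at hrM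
    have h1 : Nat.card (alternatingGroup (Fin 5)) ∣ Nat.card (Equiv.Perm (Fin 5)) := Subgroup.card_subgroup_dvd_card _
    have h2 := hrM.trans h1
    rw [Nat.card_perm, Nat.card_fin] at h2
    have h3 := (hr.prime.dvd_factorial).1 h2
    omega
  · left
    obtain ⟨N', -, hN'⟩ : ∃ N' ≤ N, Fintype.card K' = p ^ N' := by
      have h1 : Fintype.card K' ∣ p ^ N := by
        rw [← hm]
        refine dvd_pow_self _ ?_
        rintro rfl
        rw [pow_zero, eq_comm, Nat.pow_eq_one] at hm
        rcases hm with h | h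
        · exact hp.out.one_lt.ne' h
        · omega
      exact (Nat.dvd_prime_pow hp.out).1 h1
    have hNm : N = N' * m := by
      rw [hN', ← pow_mul] at hm
      exact (Nat.pow_right_injective hp.out.two_le hm).symm
    have hK'1 : 1 < Fintype.card K' := Fintype.one_lt_card
    have hrK' : r ∣ Fintype.card K' * (Fintype.card K' ^ 2 - 1) := by
      rcases he with ⟨⟨e⟩⟩ | ⟨⟨e⟩⟩
      · rw [Nat.card_congr e.toEquiv] at hrM
        rw [← Cfsg.Agent.H394.SqPsl2.card_psl (F := K')]
        exact Dvd.dvd.mul_left hrM _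
      · rw [Nat.card_congr e.toEquiv] at hrM
        rwa [Cfsg.Agent.H394.SqPsl2.card_pgl] at hrM
    have hN'0 : N' ≠ 0 := by
      rintro rfl
      rw [pow_zero] at hN'
      omega
    have h3 : N = N' := by
      rcases hr.prime.dvd_mul.1 hrK' with h | h
      · rw [hN'] at h
        exact absurd (hr.prime.dvd_of_dvd_pow h) (hr.not_dvd (by omega))
      · rw [hN', ← pow_mul, hr.dvd_iff hp.out.one_lt.le] at h
        have h4 := Nat.le_of_dvd (by omega) h
        have h5 : m ≠ 0 := by
          rintro rfl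
          omega
        have h6 : N' * 1 ≤ N' * m := Nat.mul_le_mul_left _ (by omega)
        omega
    have hcc : Fintype.card K' = Fintype.card K := by rw [hN', hK, h3]
    apply htop
    have hcK' := Cfsg.Agent.H394.SqPsl2.card_psl (F := K')
    rcases he with ⟨⟨e⟩⟩ | ⟨⟨e⟩⟩
    · rw [Nat.card_congr e.toEquiv]
      rw [hcc, ← hcardP] at hcK'
      exact (Nat.eq_of_mul_eq_mul_left (Nat.gcd_pos_of_pos_left _ (by norm_num)) hcK').symm.le
    · rw [Nat.card_congr e.toEquiv, Cfsg.Agent.H394.SqPsl2.card_pgl, hcc, ← hcardP]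
      exact Nat.le_mul_of_pos_left _ (Nat.gcd_pos_of_pos_left _ (by norm_num))

omit [CharP K p] in
/-- primes dividing `|Aut PSL_2(q)|` -/
theorem dvd_mulAut (hK : Fintype.card K = p ^ N) (h4 : 4 ≤ p ^ N) {s : ℕ} (hs : s.Prime)
    (h : s ∣ Nat.card (MulAut (Matrix.ProjectiveSpecialLinearGroup (Fin 2) K))) :
    s ∣ N ∨ s ∣ p ∨ s ∣ p ^ (2 * N) - 1 := by
  have hN : 1 ≤ N := by
    rcases Nat.eq_zero_or_pos N with rfl | h
    · rw [pow_zero] at h4; omega
    · exact h
  rw [Cfsg.Agent.S0813.result p N hN hK 2 le_rfl (fun _ => h4), if_pos rfl, one_mul, Cfsg.Agent.H394.SqPsl2.card_pgl,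
    hK, ← pow_mul, mul_comm N 2] at h
  rcases hs.dvd_mul.1 h with h | h
  · exact Or.inl h
  · rcases hs.dvd_mul.1 h with h | h
    · exact Or.inr (Or.inl (hs.dvd_of_dvd_pow h))
    · exact Or.inr (Or.inr h)

end Cfsg.Agent.H248.Cov
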