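import Cfsg.Prelude.Def_GeometricClasses
import Cfsg.Agent.H262.ElOrd

/-!
# S2499: elements of residual subgroups

* `mem_scalars_of_pow` : an element of prime order `r` of a residual subgroup with core `P` is a scalar if `r` does not
  divide `|Aut (P / Z)|`;
* `mem_scalars_of_pairs` : an element `x` which has a common fixed vector with every element of order `r` of `P` is a
  scalar, if any two elements of order `r` of `P / Z` generate it or generate the same group.
-/

set_option autoImplicit false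
set_option linter.unusedSectionVars false

namespace Cfsg.Agent.H248.Cov

open Cfsg Cfsg.Geo Matrix Module
open scoped MatrixGroups

universe u

section Res

variable {ι : Type} [Fintype ι] [DecidableEq ι] {F : Type u} [Field F] {H P : Subgroup (GL ι F)}

/-- scalars in the core -/
abbrev ZP (P : Subgroup (GL ι F)) : Subgroup P := (scalars ι F).subgroupOf P

instance zp_normal (P : Subgroup (GL ι F)) : (ZP P).Normal :=
  inferInstanceAs ((scalars ι F).subgroupOf P).Normal

/-- conjugation on the core -/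
def cjP (hc : IsResidualCore H P) (m : H) : P ≃* P where
  toFun x := ⟨m * x * (m : GL ι F)⁻¹, hc.normal m m.2 x x.2⟩
  invFun x := ⟨(m : GL ι F)⁻¹ * x * m, by
    have := hc.normal (m : GL ι F)⁻¹ (H.inv_mem m.2) x x.2
    rwa [inv_inv] at this⟩
  left_inv x := Subtype.ext (by
    show (m : GL ι F)⁻¹ * (m * x * (m : GL ι F)⁻¹) * m = x
    group)
  right_inv x := Subtype.ext (by
    show (m : GL ι F) * ((m : GL ι F)⁻¹ * x * m) * (m : GL ι F)⁻¹ = x
    group)
  map_mul' x y := Subtype.ext (by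
    show (m : GL ι F) * (x * y) * (m : GL ι F)⁻¹ =
      m * x * (m : GL ι F)⁻¹ * (m * y * (m : GL ι F)⁻¹)
    group)

theorem cjP_val (hc : IsResidualCore H P) (m : H) (x : P) :
    ((cjP hc m x : P) : GL ι F) = m * x * (m : GL ι F)⁻¹ := rfl

theorem cjP_map (hc : IsResidualCore H P) (m : H) : (ZP P).map (cjP hc m).toMonoidHom = ZP P := by
  ext x
  constructor
  · rintro ⟨y, hy, rfl⟩
    exact scalars_normal.conj_mem _ hy m
  · intro hx
    refine ⟨(cjP hc m).symm x, ?_, (cjP hc m).apply_symm_apply x⟩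
    show (m : GL ι F)⁻¹ * x * m ∈ scalars ι F
    have := scalars_normal.conj_mem _ (show (x : GL ι F) ∈ scalars ι F from hx) (m : GL ι F)⁻¹
    rwa [inv_inv] at this

/-- the action on the simple quotient -/
def act (hc : IsResidualCore H P) : H →* MulAut (P ⧸ ZP P) :=
  MonoidHom.mk' (fun m => QuotientGroup.congr (ZP P) (ZP P) (cjP hc m) (cjP_map hc m)) (by
    intro a b
    ext x
    obtain ⟨y, rfl⟩ := QuotientGroup.mk_surjective x
    show (QuotientGroup.mk (cjP hc (a * b) y) : P ⧸ ZP P) = QuotientGroup.mk (cjP hc a (cjP hc b y))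
    congr 1
    apply Subtype.ext
    rw [cjP_val, cjP_val, cjP_val, Subgroup.coe_mul]
    group)

theorem act_mk (hc : IsResidualCore H P) (m : H) (x : P) :
    act hc m (QuotientGroup.mk x) = QuotientGroup.mk (cjP hc m x) := rfl

theorem ker_act (hc : IsResidualCore H P) {m : H} (hm : act hc m = 1) : (m : GL ι F) ∈ scalars ι F := by
  apply hc.centralizer_scalar m m.2
  intro x hx
  have h1 := congrArg (fun α : MulAut (P ⧸ ZP P) => α (QuotientGroup.mk ⟨x, hx⟩)) hm
  simp only [MulAut.one_apply] at h1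
  rw [act_mk, eq_comm, QuotientGroup.eq] at h1
  have h2 : x⁻¹ * (m * x * (m : GL ι F)⁻¹) ∈ scalars ι F := h1
  have h3 := scalars_normal.conj_mem _ h2 x
  have e : x * (x⁻¹ * (m * x * (m : GL ι F)⁻¹)) * x⁻¹ = m * x * (m : GL ι F)⁻¹ * x⁻¹ := by group
  rwa [e] at h3

/-- an element of prime order not dividing `|Aut (P / Z)|` is a scalar -/
theorem mem_scalars_of_pow (hc : IsResidualCore H P) {x : GL ι F} (hx : x ∈ H) {r : ℕ}
    (hr : r.Prime) (hxr : x ^ r = 1) (hd : ¬ r ∣ Nat.card (MulAut (P ⧸ ZP P))) : x ∈ scalars ι F := by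
  have h1 : (⟨x, hx⟩ : H) ^ r = 1 := Subtype.ext hxr
  have h2 : act hc ⟨x, hx⟩ ^ r = 1 := by rw [← map_pow, h1, map_one]
  have h3 : act hc ⟨x, hx⟩ = 1 := by
    by_contra hne
    have := Fact.mk hr
    have h4 := orderOf_eq_prime h2 hne
    exact hd (h4 ▸ orderOf_dvd_natCard _)
  exact ker_act hc h3

theorem eq_one_of_scalar [Fintype F] {x : GL ι F} (hx : x ∈ scalars ι F) {r : ℕ} (hr : r.Prime) (hxr : x ^ r = 1)
    (hd : ¬ r ∣ Fintype.card F - 1) : x = 1 :=
  Cfsg.Agent.H262.El.eq_one_of_coprime hr hxr (Cfsg.Agent.H262.El.scalar_pow_card hx) hd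

theorem scalar_comm {z : GL ι F} (hz : z ∈ scalars ι F) (g : GL ι F) : z * g = g * z :=
  (Cfsg.Agent.H262.El.scalar_comm hz g).eq

/-- two elements with a common fixed vector do not generate `P` modulo scalars -/
theorem closure_ne_top (hc : IsResidualCore H P) (hι : 2 ≤ Fintype.card ι) {s t : P} {v : ι → F} (hv : v ≠ 0)
    (hs : ((s : GL ι F) : Matrix ι ι F) *ᵥ v = v) (ht : ((t : GL ι F) : Matrix ι ι F) *ᵥ v = v) :
    Subgroup.closure {(QuotientGroup.mk s : P ⧸ ZP P), QuotientGroup.mk t} ≠ ⊤ := by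
  intro htop
  set M : Subgroup P := Subgroup.closure {s, t} with hM
  have h1 : M.map (QuotientGroup.mk' (ZP P)) = ⊤ := by
    rw [hM, MonoidHom.map_closure, Set.image_pair]
    exact htop
  have h2 : ∀ y : P, ∃ m ∈ M, ∃ z : GL ι F, z ∈ scalars ι F ∧ (y : GL ι F) = m * z := by
    intro y
    have h3 : (QuotientGroup.mk' (ZP P)) y ∈ M.map (QuotientGroup.mk' (ZP P)) := by rw [h1]; trivial
    obtain ⟨m, hm, hmy⟩ := h3
    have h4 : (m : P)⁻¹ * y ∈ ZP P := QuotientGroup.eq.1 hmy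
    exact ⟨m, hm, (m : GL ι F)⁻¹ * y, h4, by rw [mul_inv_cancel_left]⟩
  -- elements of `M` fix `v`
  let S : Subgroup P :=
    { carrier := {y | ((y : GL ι F) : Matrix ι ι F) *ᵥ v = v}
      mul_mem' := fun {a b} ha hb => by
        change (((a * b : P) : GL ι F) : Matrix ι ι F) *ᵥ v = v
        rw [Subgroup.coe_mul, Units.val_mul, ← Matrix.mulVec_mulVec, show ((b : GL ι F) : Matrix ι ι F) *ᵥ v = v from hb,
          show ((a : GL ι F) : Matrix ι ι F) *ᵥ v = v from ha]
      one_mem' := by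
        change ((1 : GL ι F) : Matrix ι ι F) *ᵥ v = v
        rw [Units.val_one, Matrix.one_mulVec]
      inv_mem' := fun {a} ha => by
        change (((a : GL ι F)⁻¹ : GL ι F) : Matrix ι ι F) *ᵥ v = v
        conv_lhs => rw [← show ((a : GL ι F) : Matrix ι ι F) *ᵥ v = v from ha]
        rw [Matrix.mulVec_mulVec, ← Units.val_mul, inv_mul_cancel, Units.val_one, Matrix.one_mulVec] }
  have hMS : M ≤ S := by
    rw [hM, Subgroup.closure_le]
    rintro y (rfl | rfl)
    · exact hs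
    · exact ht
  have hPM : P ≤ S.map P.subtype := by
    refine hc.perfect.ge.trans ?_
    rw [Subgroup.commutator_le]
    intro y hy z hz
    obtain ⟨m, hm, c, hc1, hc2⟩ := h2 ⟨y, hy⟩
    obtain ⟨n, hn, d, hd1, hd2⟩ := h2 ⟨z, hz⟩
    have hc2' : y = m * c := hc2
    have hd2' : z = n * d := hd2
    change y * z * y⁻¹ * z⁻¹ ∈ S.map P.subtype
    refine ⟨m * n * m⁻¹ * n⁻¹, ?_, ?_⟩
    · exact S.mul_mem (S.mul_mem (S.mul_mem (hMS hm) (hMS hn)) (S.inv_mem (hMS hm))) (S.inv_mem (hMS hn))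
    · change ((m : GL ι F) * n * (m : GL ι F)⁻¹ * (n : GL ι F)⁻¹) = y * z * y⁻¹ * z⁻¹
      rw [hc2', hd2']
      have e1 : ((m : GL ι F) * c) * (n * d) * ((m : GL ι F) * c)⁻¹ * ((n : GL ι F) * d)⁻¹ =
          m * (c * (n * (d * c⁻¹))) * (m : GL ι F)⁻¹ * d⁻¹ * (n : GL ι F)⁻¹ := by
        group
      rw [e1]
      have e2 : c * ((n : GL ι F) * (d * c⁻¹)) = n * d := by
        rw [scalar_comm hc1, mul_assoc, mul_assoc, inv_mul_cancel, mul_one]
      rw [e2]
      have e3 : (m : GL ι F) * (n * d) * (m : GL ι F)⁻¹ * d⁻¹ = m * n * (m : GL ι F)⁻¹ := by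
        have e4 : d * (m : GL ι F)⁻¹ = (m : GL ι F)⁻¹ * d := scalar_comm hd1 _
        calc (m : GL ι F) * (n * d) * (m : GL ι F)⁻¹ * d⁻¹ = m * n * (d * (m : GL ι F)⁻¹) * d⁻¹ := by group
          _ = _ := by rw [e4]; group
      rw [e3]
  have hPv : ∀ g ∈ P, (g : Matrix ι ι F) *ᵥ v = v := by
    intro g hg
    obtain ⟨y, hy, rfl⟩ := hPM hg
    exact hy
  rcases hc.absIrred.1 (Submodule.span F {v}) (by
    rintro _ ⟨g, hg, rfl⟩
    rw [Submodule.map_span_le]
    rintro w rfl
    rw [Matrix.toLin'_apply, hPv g hg]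
    exact Submodule.mem_span_singleton_self _) with h | h
  · exact hv (Submodule.span_singleton_eq_bot.1 h)
  · have h3 := finrank_span_singleton (K := F) hv
    rw [h, finrank_top, Module.finrank_fintype_fun_eq_card] at h3
    omega

/-- **elements which have fixed vectors in common with the elements of order `r`** -/
theorem mem_scalars_of_pairs [Fintype F] (hc : IsResidualCore H P) (hι : 2 ≤ Fintype.card ι) {r : ℕ} (hr : r.Prime)
    (hrq : ¬ r ∣ Fintype.card F - 1) (hex : ∃ t : P, t ^ r = 1 ∧ t ≠ 1)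
    (hdick : ∀ s t : P ⧸ ZP P, orderOf s = r → orderOf t = r →
      Subgroup.closure {s, t} = ⊤ ∨ Subgroup.zpowers s = Subgroup.zpowers t)
    {x : GL ι F} (hx : x ∈ H)
    (hfix : ∀ t : P, t ^ r = 1 → ∃ v : ι → F, v ≠ 0 ∧ ((t : GL ι F) : Matrix ι ι F) *ᵥ v = v ∧ (x : Matrix ι ι F) *ᵥ v = v) :
    x ∈ scalars ι F := by
  have hrp := Fact.mk hr
  have hord : ∀ t : P, t ^ r = 1 → t ≠ 1 → orderOf (QuotientGroup.mk t : P ⧸ ZP P) = r := by
    intro t ht ht1
    refine orderOf_eq_prime ?_ ?_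
    · rw [← QuotientGroup.mk_pow, ht, QuotientGroup.mk_one]
    · intro h
      have h1 : t ∈ ZP P := (QuotientGroup.eq_one_iff t).1 h
      exact ht1 (Subtype.ext (eq_one_of_scalar (x := (t : GL ι F)) h1 hr (congrArg Subtype.val ht) hrq))
  let c : P ≃* P := cjP hc ⟨x, hx⟩
  have hcv : ∀ t : P, ((c t : P) : GL ι F) = x * t * x⁻¹ := fun t => rfl
  -- the key property
  have key : ∀ t : P, t ^ r = 1 → t ≠ 1 →
      Subgroup.zpowers (QuotientGroup.mk (c t) : P ⧸ ZP P) = Subgroup.zpowers (QuotientGroup.mk t : P ⧸ ZP P) := by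
    intro t ht ht1
    have h1 : (c t) ^ r = 1 := by rw [← map_pow, ht, map_one]
    have h2 : c t ≠ 1 := fun h => ht1 (c.injective (h.trans (map_one c).symm))
    obtain ⟨v, hv, hvt, hvx⟩ := hfix t ht
    have hxi : ((x⁻¹ : GL ι F) : Matrix ι ι F) *ᵥ v = v := by
      conv_lhs => rw [← hvx]
      rw [Matrix.mulVec_mulVec, ← Units.val_mul, inv_mul_cancel, Units.val_one, Matrix.one_mulVec]
    have h3 : (((c t : P) : GL ι F) : Matrix ι ι F) *ᵥ v = v := by
      rw [hcv, Units.val_mul, Units.val_mul, ← Matrix.mulVec_mulVec, ← Matrix.mulVec_mulVec, hxi, hvt, hvx]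
    exact (hdick _ _ (hord _ h1 h2) (hord _ ht ht1)).resolve_left (closure_ne_top hc hι hv h3 hvt)
  have hmap : ∀ (g a b : P), Subgroup.zpowers (QuotientGroup.mk a : P ⧸ ZP P) = Subgroup.zpowers (QuotientGroup.mk b) →
      Subgroup.zpowers (QuotientGroup.mk (g * a * g⁻¹) : P ⧸ ZP P) = Subgroup.zpowers (QuotientGroup.mk (g * b * g⁻¹)) := by
    intro g a b h
    have h1 := congrArg (Subgroup.map (MulAut.conj (QuotientGroup.mk g : P ⧸ ZP P)).toMonoidHom) h
    rw [MonoidHom.map_zpowers, MonoidHom.map_zpowers] at h1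
    exact h1
  -- the normal subgroup
  have hT : ∀ (y t : P), t ^ r = 1 → t ≠ 1 → (y * t * y⁻¹) ^ r = 1 ∧ y * t * y⁻¹ ≠ 1 := by
    intro y t ht ht1
    refine ⟨by rw [conj_pow, ht, mul_one, mul_inv_cancel], fun h => ht1 ?_⟩
    have : t = y⁻¹ * (y * t * y⁻¹) * y := by group
    rw [this, h]
    group
  let N : Subgroup P :=
    { carrier := {y | ∀ t : P, t ^ r = 1 → t ≠ 1 →
        Subgroup.zpowers (QuotientGroup.mk (y * t * y⁻¹) : P ⧸ ZP P) = Subgroup.zpowers (QuotientGroup.mk t)}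
      mul_mem' := fun {a b} ha hb => by
        intro t ht ht1
        obtain ⟨h1, h2⟩ := hT b t ht ht1
        rw [show a * b * t * (a * b)⁻¹ = a * (b * t * b⁻¹) * a⁻¹ by group, ha _ h1 h2, hb t ht ht1]
      one_mem' := fun t _ _ => by rw [one_mul, inv_one, mul_one]
      inv_mem' := fun {a} ha => by
        intro t ht ht1
        obtain ⟨h1, h2⟩ := hT a⁻¹ t ht ht1
        have h3 := ha _ h1 h2
        rw [show a * (a⁻¹ * t * a⁻¹⁻¹) * a⁻¹ = t by group] at h3
        exact h3.symm }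
  have hNmem : ∀ y : P, y ∈ N ↔ ∀ t : P, t ^ r = 1 → t ≠ 1 →
        Subgroup.zpowers (QuotientGroup.mk (y * t * y⁻¹) : P ⧸ ZP P) = Subgroup.zpowers (QuotientGroup.mk t) := fun _ => Iff.rfl
  have hNn : N.Normal := by
    refine ⟨fun y hy z => ?_⟩
    rw [hNmem]
    intro t ht ht1
    obtain ⟨h1, h2⟩ := hT z⁻¹ t ht ht1
    have h3 := hmap z _ _ (hy _ h1 h2)
    rw [show z * (z⁻¹ * t * z⁻¹⁻¹) * z⁻¹ = t by group] at h3
    rw [← h3]
    congr 2
    group
  have hZN : ZP P ≤ N := by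
    intro z hz
    rw [hNmem]
    intro t _ _
    congr 2
    apply Subtype.ext
    change (z : GL ι F) * t * (z : GL ι F)⁻¹ = t
    rw [scalar_comm (show (z : GL ι F) ∈ scalars ι F from hz), mul_inv_cancel_right]
  have hsim := hc.simple
  have hN : N ≤ ZP P := by
    have hNm : (N.map (QuotientGroup.mk' (ZP P))).Normal := hNn.map _ (QuotientGroup.mk'_surjective _)
    rcases hsim.eq_bot_or_eq_top_of_normal _ hNm with h | h
    · intro y hy
      have h1 : (QuotientGroup.mk' (ZP P)) y ∈ N.map (QuotientGroup.mk' (ZP P)) := ⟨y, hy, rfl⟩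
      rw [h, Subgroup.mem_bot] at h1
      exact (QuotientGroup.eq_one_iff y).1 h1
    · exfalso
      have hNt : ∀ y : P, y ∈ N := by
        intro y
        have h1 : (QuotientGroup.mk' (ZP P)) y ∈ N.map (QuotientGroup.mk' (ZP P)) := by rw [h]; trivial
        obtain ⟨m, hm, hmy⟩ := h1
        have h4 : (m : P)⁻¹ * y ∈ ZP P := QuotientGroup.eq.1 hmy
        have h5 := N.mul_mem hm (hZN h4)
        rwa [mul_inv_cancel_left] at h5
      obtain ⟨t, ht, ht1⟩ := hex
      have hzn : (Subgroup.zpowers (QuotientGroup.mk t : P ⧸ ZP P)).Normal := by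
        refine ⟨fun z hz g => ?_⟩
        obtain ⟨y, rfl⟩ := QuotientGroup.mk_surjective g
        have h1 := hNt y t ht ht1
        have h2 := hmap y t t rfl
        rw [← h1]
        obtain ⟨n, rfl⟩ := hz
        refine ⟨n, ?_⟩
        change (QuotientGroup.mk (y * t * y⁻¹) : P ⧸ ZP P) ^ n = QuotientGroup.mk y * (QuotientGroup.mk t) ^ n * (QuotientGroup.mk y)⁻¹
        rw [← conj_zpow]
        rfl
      rcases hsim.eq_bot_or_eq_top_of_normal _ hzn with h1 | h1
      · rw [Subgroup.zpowers_eq_bot] at h1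
        have h2 := hord t ht ht1
        rw [h1, orderOf_one] at h2
        exact hr.one_lt.ne h2
      · apply hc.nonabelian
        refine ⟨⟨fun a b => ?_⟩⟩
        have ha : a ∈ Subgroup.zpowers (QuotientGroup.mk t : P ⧸ ZP P) := by rw [h1]; trivial
        have hb : b ∈ Subgroup.zpowers (QuotientGroup.mk t : P ⧸ ZP P) := by rw [h1]; trivial
        obtain ⟨m, rfl⟩ := ha
        obtain ⟨n, rfl⟩ := hb
        exact (Commute.refl _).zpow_zpow m n
  apply hc.centralizer_scalar x hx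
  intro y hy
  set y' : P := ⟨y, hy⟩ with hy'
  -- `y⁻¹ * x y x⁻¹` lies in `N`
  have h1 : y'⁻¹ * c y' ∈ N := by
    rw [hNmem]
    intro t ht ht1
    set t1 : P := c.symm t with ht1'
    have a1 : t1 ^ r = 1 := by rw [ht1', ← map_pow, ht, map_one]
    have a2 : t1 ≠ 1 := fun h => ht1 (c.symm.injective (h.trans (map_one _).symm))
    obtain ⟨a3, a4⟩ := hT y' t1 a1 a2
    have k1 := key _ a1 a2
    have k2 := key _ a3 a4
    have hct : c t1 = t := c.apply_symm_apply t
    rw [hct] at k1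
    have k3 := hmap y'⁻¹ _ _ k2
    rw [show y'⁻¹ * (y' * t1 * y'⁻¹) * y'⁻¹⁻¹ = t1 by group, ← k1, map_mul, map_mul, map_inv, hct] at k3
    rw [← k3]
    congr 2
    group
  have h2 : (y⁻¹ : GL ι F) * (x * y * x⁻¹) ∈ scalars ι F := hN h1
  have h3 := scalars_normal.conj_mem _ h2 y
  rwa [show y * (y⁻¹ * (x * y * x⁻¹)) * y⁻¹ = x * y * x⁻¹ * y⁻¹ by group] at h3

end Res

end Cfsg.Agent.H248.Cov
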