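import Cfsg.Agent.H248.Cov.Blk
import Cfsg.Agent.H262.ElSympGeo
import Cfsg.Agent.H159.PF.FieldUniq

/-!
# S2499: the element `neg k + z` of `Sp_{2(k + 2)}(q)`, `q` odd

`exists_zel`: there is `c` in `Sp_{2(k+2)}(q)` no conjugate of which fixes a line or a non-degenerate 2-space or
normalises a quadratic field of self-adjoint matrices; a power of `c` has order `p` and another one order `r`.
-/

set_option autoImplicit false
set_option linter.unusedSectionVars false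

namespace Cfsg.Agent.H248.Cov

open Cfsg Cfsg.Geo Matrix Cfsg.Agent.ClassicalGeometry.SympBasic Module
open Cfsg.Agent.H262.El
open scoped MatrixGroups

universe u

section Grp

variable {G : Type*} [Group G]

theorem left_mem {M : Subgroup G} {x y : G} (hc : Commute x y) (hco : Nat.Coprime (orderOf x) (orderOf y))
    (h : x * y ∈ M) : x ∈ M := by
  have h1 : (x * y) ^ orderOf y = x ^ orderOf y := by
    rw [hc.mul_pow, pow_orderOf_eq_one, mul_one]
  obtain ⟨m, hm⟩ := exists_pow_eq_self_of_coprime (x := x) (n := orderOf y) hco.symm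
  rw [← hm, ← h1]
  exact M.pow_mem (M.pow_mem h _) _

theorem right_mem {M : Subgroup G} {x y : G} (hc : Commute x y) (hco : Nat.Coprime (orderOf x) (orderOf y))
    (h : x * y ∈ M) : y ∈ M := by
  rw [hc.eq] at h
  exact left_mem hc.symm hco.symm h

end Grp

section Ord

variable {F : Type u} [Field F] [Fintype F]

theorem LM_pow {t : F} (ht : ∀ c : F, c * c - t * c + 1 ≠ 0) : L4 t ^ (Fintype.card F ^ 2 - 1) = 1 := by
  classical
  let P : Polynomial F := Polynomial.X ^ 2 + Polynomial.C (-t) * Polynomial.X + Polynomial.C 1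
  have hdeg : P.natDegree = 2 := by
    have : P = Polynomial.C 1 * Polynomial.X ^ 2 + Polynomial.C (-t) * Polynomial.X + Polynomial.C 1 := by
      simp [P]
    rw [this]
    exact Polynomial.natDegree_quadratic one_ne_zero
  have hirr : Irreducible P := by
    rw [Polynomial.irreducible_iff_roots_eq_zero_of_degree_le_three (by omega) (by omega)]
    by_contra h
    obtain ⟨c, hc⟩ := Multiset.exists_mem_of_ne_zero h
    have hc0 : P.eval c = 0 := (Polynomial.mem_roots'.1 hc).2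
    apply ht c
    simp only [P, Polynomial.eval_add, Polynomial.eval_mul, Polynomial.eval_pow, Polynomial.eval_X,
      Polynomial.eval_C] at hc0
    linear_combination hc0
  have : Fact (Irreducible P) := ⟨hirr⟩
  have hP0 : P ≠ 0 := hirr.ne_zero
  have hf1 : Module.finrank F (AdjoinRoot P) = 2 := by
    rw [(AdjoinRoot.powerBasis hP0).finrank, AdjoinRoot.powerBasis_dim, hdeg]
  have : FiniteDimensional F (AdjoinRoot P) := Module.finite_of_finrank_pos (by rw [hf1]; norm_num)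
  have hfinA : Finite (AdjoinRoot P) := Module.finite_of_finite F
  have : Fintype (AdjoinRoot P) := Fintype.ofFinite _
  have hcard : Fintype.card (AdjoinRoot P) = Fintype.card F ^ 2 := by
    rw [Module.card_eq_pow_finrank (K := F) (V := AdjoinRoot P), hf1]
  have haeval : Polynomial.aeval (LM t) P = 0 := by
    have h3 : Polynomial.aeval (LM t) P = (LM t) ^ 2 + algebraMap F _ (-t) * LM t + algebraMap F _ 1 := by
      simp only [P, map_add, map_mul, map_pow, Polynomial.aeval_X, Polynomial.aeval_C]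
    rw [h3]
    apply Matrix.toLin'.injective
    apply LinearMap.ext
    intro v
    rw [Matrix.toLin'_apply, map_zero, LinearMap.zero_apply, Matrix.add_mulVec, Matrix.add_mulVec, sq,
      ← Matrix.mulVec_mulVec, ← Matrix.mulVec_mulVec]
    have h4 := L4_sq t v
    change LM t *ᵥ (LM t *ᵥ v) = t • (LM t *ᵥ v) - v at h4
    rw [h4, Algebra.algebraMap_eq_smul_one, Algebra.algebraMap_eq_smul_one, Matrix.smul_mulVec,
      Matrix.smul_mulVec, Matrix.one_mulVec, Matrix.one_mulVec, neg_smul, one_smul]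
    abel
  have hroot0 : AdjoinRoot.root P ≠ 0 := by
    intro h0
    have h1 : Polynomial.aeval (AdjoinRoot.root P) P = 0 := by
      rw [AdjoinRoot.aeval_eq, AdjoinRoot.mk_self]
    have h3 : Polynomial.aeval (AdjoinRoot.root P) P = (AdjoinRoot.root P) ^ 2 +
        algebraMap F _ (-t) * AdjoinRoot.root P + algebraMap F _ 1 := by
      simp only [P, map_add, map_mul, map_pow, Polynomial.aeval_X, Polynomial.aeval_C]
    rw [h3, h0, map_one] at h1
    simp at h1
  have h1 := FiniteField.pow_card_sub_one_eq_one _ hroot0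
  rw [hcard] at h1
  have h2 : AdjoinRoot.mk P (Polynomial.X ^ (Fintype.card F ^ 2 - 1) - 1) = 0 := by
    rw [map_sub, map_pow, map_one, AdjoinRoot.mk_X, h1, sub_self]
  obtain ⟨Q, hQ⟩ := AdjoinRoot.mk_eq_zero.1 h2
  have h3 := congrArg (Polynomial.aeval (LM t)) hQ
  rw [map_mul, haeval, zero_mul, map_sub, map_pow, Polynomial.aeval_X, map_one, sub_eq_zero] at h3
  apply Units.ext
  rw [Units.val_pow_eq_pow_val, Units.val_one]
  exact h3

theorem U4_pow (t : F) (p : ℕ) [CharP F p] : U4 t ^ p = 1 := by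
  have h1 : ∀ j : ℕ, ∀ v : Fin 2 ⊕ Fin 2 → F,
      ((U4 t ^ j : GL (Fin 2 ⊕ Fin 2) F) : Matrix (Fin 2 ⊕ Fin 2) (Fin 2 ⊕ Fin 2) F) *ᵥ v =
      v + (j : F) • ((U4 t : Matrix (Fin 2 ⊕ Fin 2) (Fin 2 ⊕ Fin 2) F) *ᵥ v - v) := by
    intro j
    induction j with
    | zero => intro v; simp
    | succ j ih =>
      intro v
      rw [pow_succ', Units.val_mul, ← Matrix.mulVec_mulVec, ih]
      rw [Matrix.mulVec_add, Matrix.mulVec_smul, Matrix.mulVec_sub]
      have h2 : (U4 t : Matrix (Fin 2 ⊕ Fin 2) (Fin 2 ⊕ Fin 2) F) *ᵥ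
          ((U4 t : Matrix (Fin 2 ⊕ Fin 2) (Fin 2 ⊕ Fin 2) F) *ᵥ v) =
          (U4 t : Matrix (Fin 2 ⊕ Fin 2) (Fin 2 ⊕ Fin 2) F) *ᵥ v +
            ((U4 t : Matrix (Fin 2 ⊕ Fin 2) (Fin 2 ⊕ Fin 2) F) *ᵥ v - v) := by
        rw [U4_mulVec, U4_mulVec]
        apply ext4 <;> simp
      rw [h2]
      push_cast
      module
  apply eq_of_mulVec
  intro v
  rw [h1, CharP.cast_eq_zero, zero_smul, add_zero, Units.val_one, Matrix.one_mulVec]

end Ord

section El

variable {F : Type u} [Field F] [Fintype F] {k : ℕ}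

/-- invariant under `x` -/
theorem conj_stab {n : ℕ} {W : Submodule F (Fin n ⊕ Fin n → F)} {y x : GL (Fin n ⊕ Fin n) F}
    (h : y * x * y⁻¹ ∈ subspaceStabilizer W) :
    ∀ v ∈ W.comap (Matrix.toLin' (y : Matrix (Fin n ⊕ Fin n) (Fin n ⊕ Fin n) F)),
      (x : Matrix (Fin n ⊕ Fin n) (Fin n ⊕ Fin n) F) *ᵥ v ∈ W.comap (Matrix.toLin' (y : Matrix (Fin n ⊕ Fin n) (Fin n ⊕ Fin n) F)) := by
  intro v hv
  rw [Submodule.mem_comap, Matrix.toLin'_apply] at hv ⊢
  have h1 := (Cfsg.Agent.H918.mem_subspaceStabilizer.1 h _).1 hv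
  rw [Matrix.mulVec_mulVec, ← Units.val_mul, inv_mul_cancel_right, Units.val_mul, ← Matrix.mulVec_mulVec] at h1
  exact h1

theorem finrank_comap {n : ℕ} (W : Submodule F (Fin n ⊕ Fin n → F)) (y : GL (Fin n ⊕ Fin n) F) :
    finrank F (W.comap (Matrix.toLin' (y : Matrix (Fin n ⊕ Fin n) (Fin n ⊕ Fin n) F))) = finrank F W := by
  have h1 : ∀ v, ((y⁻¹ : GL (Fin n ⊕ Fin n) F) : Matrix (Fin n ⊕ Fin n) (Fin n ⊕ Fin n) F) *ᵥ
      ((y : Matrix (Fin n ⊕ Fin n) (Fin n ⊕ Fin n) F) *ᵥ v) = v := by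
    intro v
    rw [Matrix.mulVec_mulVec, ← Units.val_mul, inv_mul_cancel, Units.val_one, Matrix.one_mulVec]
  have h2 : ∀ v, (y : Matrix (Fin n ⊕ Fin n) (Fin n ⊕ Fin n) F) *ᵥ
      (((y⁻¹ : GL (Fin n ⊕ Fin n) F) : Matrix (Fin n ⊕ Fin n) (Fin n ⊕ Fin n) F) *ᵥ v) = v := by
    intro v
    rw [Matrix.mulVec_mulVec, ← Units.val_mul, mul_inv_cancel, Units.val_one, Matrix.one_mulVec]
  refine LinearEquiv.finrank_eq
    { toFun := fun w => ⟨(y : Matrix (Fin n ⊕ Fin n) (Fin n ⊕ Fin n) F) *ᵥ w.1, by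
        have := w.2
        rwa [Submodule.mem_comap, Matrix.toLin'_apply] at this⟩
      invFun := fun w => ⟨((y⁻¹ : GL (Fin n ⊕ Fin n) F) : Matrix (Fin n ⊕ Fin n) (Fin n ⊕ Fin n) F) *ᵥ w.1, by
        rw [Submodule.mem_comap, Matrix.toLin'_apply, h2]
        exact w.2⟩
      map_add' := fun a b => Subtype.ext (by
        change (y : Matrix (Fin n ⊕ Fin n) (Fin n ⊕ Fin n) F) *ᵥ (a.1 + b.1) = _ + _
        exact Matrix.mulVec_add _ _ _)
      map_smul' := fun c a => Subtype.ext (by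
        change (y : Matrix (Fin n ⊕ Fin n) (Fin n ⊕ Fin n) F) *ᵥ (c • a.1) = c • _
        exact Matrix.mulVec_smul _ _ _)
      left_inv := fun w => Subtype.ext (h1 w.1)
      right_inv := fun w => Subtype.ext (h2 w.1) }

/-- a fixed-point-free element of prime order -/
theorem exists_neg {r : ℕ} (hk : 1 ≤ k) (hr : Od (Fintype.card F) (2 * k) r) :
    ∃ a ∈ spGL k F, a ^ r = 1 ∧ a ≠ 1 ∧
      ∀ v, (a : Matrix (Fin k ⊕ Fin k) (Fin k ⊕ Fin k) F) *ᵥ v = v → v = 0 := by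
  have hfin : Finite (GL (Fin k ⊕ Fin k) F) := inferInstance
  have := Fact.mk hr.prime
  obtain ⟨g, hg⟩ := exists_prime_orderOf_dvd_card' (G := spGL k F) r (dvd_card_spGL hk hr dvd_rfl hk le_rfl)
  have hgr : (g : GL (Fin k ⊕ Fin k) F) ^ r = 1 := by
    rw [← Subgroup.coe_pow, ← hg, pow_orderOf_eq_one]; rfl
  have hg1 : (g : GL (Fin k ⊕ Fin k) F) ≠ 1 := by
    intro h1
    have hg2 : g = 1 := Subtype.ext h1
    rw [hg2, orderOf_one] at hg
    exact hr.prime.one_lt.ne hg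
  refine ⟨g, g.2, hgr, hg1, fun v hv => ?_⟩
  have h1 := finrank_fixS hr hgr
  have h2 := finrank_fixS_lt (F := F) hg1
  have hι : Fintype.card (Fin k ⊕ Fin k) = 2 * k := by simp; ring
  rw [hι] at h1 h2
  have h3 : finrank F (fixS (g : GL (Fin k ⊕ Fin k) F)) = 0 := by
    by_contra h0
    have := Nat.le_of_dvd (by omega) h1
    omega
  have h4 := Submodule.finrank_eq_zero.1 h3
  have h5 : v ∈ fixS (g : GL (Fin k ⊕ Fin k) F) := mem_fixS.2 hv
  rwa [h4, Submodule.mem_bot] at h5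

/-- the properties of the element `neg k + z` -/
structure Zel (k : ℕ) (F : Type u) [Field F] [Fintype F] (p r : ℕ) (c : GL (Fin (k + 2) ⊕ Fin (k + 2)) F) : Prop where
  mem : c ∈ spGL (k + 2) F
  field : ∀ y ∈ spGL (k + 2) F, ∀ K : Subalgebra F (Matrix (Fin (k + 2) ⊕ Fin (k + 2)) (Fin (k + 2) ⊕ Fin (k + 2)) F),
    IsFieldSubalgebra 2 K → IsSelfAdjointFor (sympForm (k + 2) F) K → y * c * y⁻¹ ∉ subalgebraNormalizer K
  space : ∀ y ∈ spGL (k + 2) F, ∀ W : Submodule F (Fin (k + 2) ⊕ Fin (k + 2) → F), W ≠ ⊥ → finrank F W ≤ 2 →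
    (finrank F W = 1 ∨ IsNondegenerateOn (sympForm (k + 2) F) W) → y * c * y⁻¹ ∉ subspaceStabilizer W
  p_dvd : p ∣ orderOf c
  r_dvd : r ∣ orderOf c

theorem conj_mulVec {n : ℕ} {y : GL (Fin n ⊕ Fin n) F} (v : Fin n ⊕ Fin n → F) :
    (y : Matrix (Fin n ⊕ Fin n) (Fin n ⊕ Fin n) F) *ᵥ
      (((y⁻¹ : GL (Fin n ⊕ Fin n) F) : Matrix (Fin n ⊕ Fin n) (Fin n ⊕ Fin n) F) *ᵥ v) = v := by
  rw [Matrix.mulVec_mulVec, ← Units.val_mul, mul_inv_cancel, Units.val_one, Matrix.one_mulVec]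

/-- self-adjointness of conjugate fields -/
theorem conj_sa {n : ℕ} {K : Subalgebra F (Matrix (Fin n ⊕ Fin n) (Fin n ⊕ Fin n) F)}
    (hsa : IsSelfAdjointFor (sympForm n F) K) {y : GL (Fin n ⊕ Fin n) F} (hy : y ∈ spGL n F) :
    IsSelfAdjointFor (sympForm n F) (K.map (H912.conjAlg y⁻¹ : Matrix (Fin n ⊕ Fin n) (Fin n ⊕ Fin n) F →ₐ[F]
      Matrix (Fin n ⊕ Fin n) (Fin n ⊕ Fin n) F)) := by
  intro a ha u v
  rw [H159.PF.mem_map_conjAlg, inv_inv] at ha
  have h1 := hsa _ ha ((y : Matrix (Fin n ⊕ Fin n) (Fin n ⊕ Fin n) F) *ᵥ u)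
    ((y : Matrix (Fin n ⊕ Fin n) (Fin n ⊕ Fin n) F) *ᵥ v)
  have h2 : ∀ x, ((y : Matrix (Fin n ⊕ Fin n) (Fin n ⊕ Fin n) F) * a *
      ((y⁻¹ : GL (Fin n ⊕ Fin n) F) : Matrix (Fin n ⊕ Fin n) (Fin n ⊕ Fin n) F)) *ᵥ
      ((y : Matrix (Fin n ⊕ Fin n) (Fin n ⊕ Fin n) F) *ᵥ x) =
      (y : Matrix (Fin n ⊕ Fin n) (Fin n ⊕ Fin n) F) *ᵥ (a *ᵥ x) := by
    intro x
    have h3 : ((y⁻¹ : GL (Fin n ⊕ Fin n) F) : Matrix (Fin n ⊕ Fin n) (Fin n ⊕ Fin n) F) *ᵥ
        ((y : Matrix (Fin n ⊕ Fin n) (Fin n ⊕ Fin n) F) *ᵥ x) = x := by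
      rw [Matrix.mulVec_mulVec, ← Units.val_mul, inv_mul_cancel, Units.val_one, Matrix.one_mulVec]
    rw [← Matrix.mulVec_mulVec, h3, ← Matrix.mulVec_mulVec]
  rw [h2, h2, mem_spGL.1 hy, mem_spGL.1 hy] at h1
  exact h1

/-- **existence of the element `neg k + z`** -/
theorem exists_zel {p r : ℕ} [hp : Fact p.Prime] [CharP F p] (hp2 : p ≠ 2) (hk : 2 ≤ k)
    (hr : Od (Fintype.card F) (2 * k) r) :
    ∃ c : GL (Fin (k + 2) ⊕ Fin (k + 2)) F, Zel k F p r c := by
  have hFp : ∃ n : ℕ, 1 ≤ n ∧ Fintype.card F = p ^ n := by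
    obtain ⟨n, -, hn⟩ := FiniteField.card F p
    exact ⟨n, n.pos, hn⟩
  obtain ⟨e, he, hF⟩ := hFp
  have h2 : (2 : F) ≠ 0 := by
    intro h0
    have h1 : p ∣ 2 := (CharP.cast_eq_zero_iff F p 2).1 (by exact_mod_cast h0)
    exact hp2 ((Nat.prime_dvd_prime_iff_eq hp.out Nat.prime_two).1 h1)
  obtain ⟨a, ha, har, ha1, hfix⟩ := exists_neg (by omega) hr
  have hao : orderOf a = r := orderOf_eq_prime har ha1 (hp := ⟨hr.prime⟩)
  obtain ⟨t, ht⟩ := exists_t F
  have hr2 : r ≠ 2 := by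
    have := hr.lt
    omega
  have hZ := zdata h2 (by rw [hao]; exact hr.prime.odd_of_ne_two hr2) ha1 hfix ht
  set g := blk k 2 F (a, 1) with hg
  set lam := blk k 2 F (1, L4 t) with hlam
  set w := blk k 2 F (1, U4 t) with hw
  have og : orderOf g = r := by
    rw [hg, orderOf_injective _ blk_injective, Prod.orderOf_mk, orderOf_one, Nat.lcm_one_right, hao]
  have ol : orderOf lam ∣ Fintype.card F ^ 2 - 1 := by
    rw [hlam, orderOf_injective _ blk_injective, Prod.orderOf_mk, orderOf_one, Nat.lcm_one_left]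
    exact orderOf_dvd_of_pow_eq_one (LM_pow ht)
  have ow : orderOf w = p := by
    rw [hw, orderOf_injective _ blk_injective, Prod.orderOf_mk, orderOf_one, Nat.lcm_one_left]
    refine orderOf_eq_prime (U4_pow t p) ?_
    intro h1
    have h3 := (U4_fix h2 ht (Pi.single (Sum.inr 0) 1)).1 (by rw [h1, Units.val_one, Matrix.one_mulVec])
    simp at h3
  have hF1 : 1 ≤ Fintype.card F := Fintype.card_pos
  have hco1 : Nat.Coprime (orderOf g) (orderOf lam) := by
    rw [og, hr.prime.coprime_iff_not_dvd]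
    intro h
    have h3 := (hr.dvd_iff hF1 2).1 (h.trans ol)
    have := Nat.le_of_dvd (by norm_num) h3
    omega
  have hpF : p ∣ Fintype.card F := by rw [hF]; exact dvd_pow_self p (by omega)
  have hpr : p ≠ r := by
    rintro rfl
    exact hr.ndvd hpF
  have hco2 : Nat.Coprime (orderOf g) (orderOf w) := by
    rw [og, ow]
    exact (Nat.coprime_primes hr.prime hp.out).2 hpr.symm
  have hco3 : Nat.Coprime (orderOf lam) (orderOf w) := by
    rw [ow, Nat.coprime_comm, hp.out.coprime_iff_not_dvd]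
    intro h
    have h3 : p ∣ Fintype.card F ^ 2 - 1 := h.trans ol
    have h4 : p ∣ Fintype.card F ^ 2 := hpF.trans (dvd_pow_self _ two_ne_zero)
    have h5 : 1 ≤ Fintype.card F ^ 2 := Nat.one_le_pow _ _ hF1
    have h6 : p ∣ 1 := by
      have := (Nat.dvd_sub h4 h3)
      rwa [show Fintype.card F ^ 2 - (Fintype.card F ^ 2 - 1) = 1 by omega] at this
    exact hp.out.one_lt.ne' (Nat.dvd_one.1 h6)
  have cgl : Commute g lam := hZ.glam
  have cgw : Commute g w := hZ.gw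
  have clw : Commute lam w := hZ.lamw
  have hcoglw : Nat.Coprime (orderOf (g * lam)) (orderOf w) := by
    rw [cgl.orderOf_mul_eq_mul_orderOf_of_coprime hco1]
    exact Nat.Coprime.mul_left hco2 hco3
  have cglw : Commute (g * lam) w := cgw.mul_left clw
  have hmem : ∀ M : Subgroup (GL (Fin (k + 2) ⊕ Fin (k + 2)) F), g * lam * w ∈ M → g ∈ M ∧ lam ∈ M ∧ w ∈ M := by
    intro M h
    have h3 := left_mem cglw hcoglw h
    exact ⟨left_mem cgl hco1 h3, right_mem cgl hco1 h3, right_mem cglw hcoglw h⟩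
  have hconj : ∀ (M : Subgroup (GL (Fin (k + 2) ⊕ Fin (k + 2)) F)) (y : GL (Fin (k + 2) ⊕ Fin (k + 2)) F),
      y * (g * lam * w) * y⁻¹ ∈ M → y * g * y⁻¹ ∈ M ∧ y * lam * y⁻¹ ∈ M ∧ y * w * y⁻¹ ∈ M := fun M y h =>
    hmem (M.comap (MulAut.conj y).toMonoidHom) h
  refine ⟨g * lam * w, ?_, ?_, ?_, ?_, ?_⟩
  · exact Subgroup.mul_mem _ (Subgroup.mul_mem _ (blk_mem ha (Subgroup.one_mem _))
      (blk_mem (Subgroup.one_mem _) (L4_mem t))) (blk_mem (Subgroup.one_mem _) (U4_mem t))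
  · intro y hy K hK hsa h
    obtain ⟨c1, c2, c3⟩ := hconj _ y h
    have hK' := H159.PF.conj_fieldSub hK y⁻¹
    have hne : Nonempty (Fin (k + 2) ⊕ Fin (k + 2)) := ⟨Sum.inl 0⟩
    refine hZ.not_field hK' (conj_sa hsa hy) ?_ ?_ ?_ <;> rw [H159.PF.mem_normalizer_conj, inv_inv]
    · exact c1
    · exact c2
    · exact c3
  · intro y hy W hW0 hW2 hW h
    obtain ⟨c1, c2, c3⟩ := hconj _ y h
    set W' := W.comap (Matrix.toLin' (y : Matrix (Fin (k + 2) ⊕ Fin (k + 2)) (Fin (k + 2) ⊕ Fin (k + 2)) F)) with hW'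
    have d1 : finrank F W' = finrank F W := finrank_comap W y
    have i1 := conj_stab c1
    have i2 := conj_stab c2
    have i3 := conj_stab c3
    have hgr : g ^ r = 1 := by rw [← og, pow_orderOf_eq_one]
    have hne : Nonempty (Fin (k + 2) ⊕ Fin (k + 2)) := ⟨Sum.inl 0⟩
    have e1 := finrank_inv hr hgr W' i1
    have e2 : finrank F W' - finrank F (W' ⊓ fixS g : Submodule F _) = 0 := by
      by_contra h0
      have := Nat.le_of_dvd (by omega) e1
      omega
    have e3 : W' ⊓ fixS g = W' := Submodule.eq_of_le_of_finrank_le inf_le_left (by omega)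
    have hW4 : W' ≤ V4 k F := by
      rw [← e3]
      intro v hv
      exact (hZ.fix v).2 (mem_fixS.1 hv.2)
    have hW'0 : W' ≠ ⊥ := by
      intro h0
      apply hW0
      rw [← Submodule.finrank_eq_zero (R := F), ← d1, h0, finrank_bot]
    have hC := hZ.C_le hW4 hW'0 i2 i3
    have hCd : finrank F (C2 k F) = 2 := by
      obtain ⟨v, hv, hv0⟩ := (Submodule.ne_bot_iff _).1 hZ.C_ne
      have hle : finrank F (C2 k F) ≤ 2 := by
        have := Submodule.finrank_mono hC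
        omega
      by_contra hne2
      have hpos : 0 < finrank F (C2 k F) := by
        rw [Nat.pos_iff_ne_zero, Ne, Submodule.finrank_eq_zero]
        exact hZ.C_ne
      have h1 : finrank F (C2 k F) = 1 := by omega
      have hlv : (lam : Matrix (Fin (k + 2) ⊕ Fin (k + 2)) (Fin (k + 2) ⊕ Fin (k + 2)) F) *ᵥ v ∈ C2 k F := by
        rw [hZ.mem_C] at hv ⊢
        refine ⟨hZ.lam4 hv.1, ?_⟩
        rw [Matrix.mulVec_mulVec, ← Units.val_mul, ← hZ.lamw, Units.val_mul, ← Matrix.mulVec_mulVec, hv.2]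
      obtain ⟨b, hb⟩ := (finrank_eq_one_iff_of_nonzero' (⟨v, hv⟩ : C2 k F) (by
        intro h; exact hv0 (congrArg Subtype.val h))).1 h1 ⟨_, hlv⟩
      apply hv0
      apply hZ.eq_zero ((hZ.mem_C v).1 hv).1 (a := 1) (b := b) one_ne_zero
      rw [one_smul]
      exact (congrArg Subtype.val hb).symm
    have hCW : C2 k F = W' := Submodule.eq_of_le_of_finrank_le hC (by omega)
    have hd2 : finrank F W = 2 := by rw [← d1, ← hCW, hCd]
    rcases hW with hW | hW
    · omega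
    · obtain ⟨x, hx, hx0⟩ := (Submodule.ne_bot_iff _).1 hW0
      obtain ⟨⟨z, hz, hzx⟩, -⟩ := hW x hx hx0
      apply hzx
      have hin : ∀ x ∈ W, ((y⁻¹ : GL (Fin (k + 2) ⊕ Fin (k + 2)) F) : Matrix (Fin (k + 2) ⊕ Fin (k + 2)) (Fin (k + 2) ⊕ Fin (k + 2)) F) *ᵥ x ∈ C2 k F := by
        intro x hx
        rw [hCW, hW', Submodule.mem_comap, Matrix.toLin'_apply, conj_mulVec]
        exact hx
      have h5 := C2_ts (hin z hz) (hin x hx)
      rwa [mem_spGL.1 (Subgroup.inv_mem _ hy)] at h5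
  · rw [← ow]
    exact orderOf_dvd_of_mem_zpowers (hmem (Subgroup.zpowers (g * lam * w)) (Subgroup.mem_zpowers _)).2.2
  · rw [← og]
    exact orderOf_dvd_of_mem_zpowers (hmem (Subgroup.zpowers (g * lam * w)) (Subgroup.mem_zpowers _)).1

end El

end Cfsg.Agent.H248.Cov
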