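import Cfsg.Agent.H248.Cov.SpTools
import Cfsg.Agent.H248.Cov.Zel
import Cfsg.Agent.H278.Cov.Defs
import Cfsg.Agent.H118.BS.Quad
import Cfsg.Agent.H262.ElSympMiss
import Cfsg.Agent.H16.PSp4.Bridge
import Cfsg.Agent.S5823

/-!
# S2499: `PSp_8(q)`, `q` odd

`noTwo_of_res` : `PSp_8(q)`, `q` odd, is not the union of the conjugates of two proper subgroups (from S5823 and S5824).
-/

set_option autoImplicit false
set_option linter.unusedSectionVars false

namespace Cfsg.Agent.H248.Cov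

open Cfsg Cfsg.Geo Matrix Module
open Cfsg.Agent.ClassicalGeometry.SympBasic Cfsg.Agent.H876 Cfsg.Agent.H931
open Cfsg.Agent.H262.El
open Cfsg.Agent.H884.El (PP)
open Cfsg.Agent.H278.Cov
open scoped MatrixGroups

universe u

/-- the conclusion of S5824 -/
def Res24 (F : Type u) [Field F] [Fintype F] (H : Subgroup (GL (Fin 4 ⊕ Fin 4) F)) : Prop :=
    ∃ (P : Subgroup (Matrix.GeneralLinearGroup (Fin 4 ⊕ Fin 4) F)) (p : ℕ), Cfsg.Geo.IsResidualCore H P ∧ p.Prime ∧ CharP F p ∧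
    ((Nonempty ((P ⧸ (Cfsg.Geo.scalars (Fin 4 ⊕ Fin 4) F).subgroupOf P) ≃* Matrix.ProjectiveSpecialLinearGroup (Fin 2) (ZMod 7)) ∧ Fintype.card F = p ∧ 5 ≤ p ∧ p ≠ 7) ∨
     (Nonempty ((P ⧸ (Cfsg.Geo.scalars (Fin 4 ⊕ Fin 4) F).subgroupOf P) ≃* alternatingGroup (Fin 6)) ∧ ((Fintype.card F = p ∧ (p % 20 = 1 ∨ p % 20 = 19 ∨ p % 20 = 9 ∨ p % 20 = 11)) ∨ (Fintype.card F = p ^ 2 ∧ p ≠ 2 ∧ p ≠ 3 ∧ (p % 5 = 2 ∨ p % 5 = 3)))) ∨
     (Nonempty ((P ⧸ (Cfsg.Geo.scalars (Fin 4 ⊕ Fin 4) F).subgroupOf P) ≃* Matrix.ProjectiveSpecialLinearGroup (Fin 2) (ZMod 17)) ∧ ((Fintype.card F = p ∧ (p % 17 = 1 ∨ p % 17 = 16 ∨ p % 17 = 2 ∨ p % 17 = 15 ∨ p % 17 = 4 ∨ p % 17 = 13 ∨ p % 17 = 8 ∨ p % 17 = 9)) ∨ (Fintype.card F = p ^ 2 ∧ (p % 17 = 3 ∨ p % 17 = 14 ∨ p % 17 = 5 ∨ p % 17 = 12 ∨ p % 17 = 6 ∨ p % 17 = 11 ∨ p % 17 = 7 ∨ p % 17 = 10)))) ∨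
     (Nonempty ((P ⧸ (Cfsg.Geo.scalars (Fin 4 ⊕ Fin 4) F).subgroupOf P) ≃* alternatingGroup (Fin 10)) ∧ Fintype.card F = 2) ∨
     (Nonempty ((P ⧸ (Cfsg.Geo.scalars (Fin 4 ⊕ Fin 4) F).subgroupOf P) ≃* Matrix.ProjectiveSpecialLinearGroup (Fin 2) F) ∧ 11 ≤ p) ∨
     ((∃ (K : Type) (_ : Field K) (_ : Fintype K), Fintype.card K = Fintype.card F ^ 3 ∧ Nonempty ((P ⧸ (Cfsg.Geo.scalars (Fin 4 ⊕ Fin 4) F).subgroupOf P) ≃* Matrix.ProjectiveSpecialLinearGroup (Fin 2) K)) ∧ Odd (Fintype.card F)))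

section Main

variable {F : Type u} [Field F] [Fintype F] {p a : ℕ}

theorem card_dvd_of_mem {ι : Type} [Fintype ι] [DecidableEq ι] {M : Subgroup (GL ι F)} {y : GL ι F} {r : ℕ}
    (hr : r.Prime) (hy : y ∈ M) (hyr : y ^ r = 1) (hy1 : y ≠ 1) : r ∣ Nat.card M := by
  have := Fact.mk hr
  have h1 : orderOf (⟨y, hy⟩ : M) = r := by
    rw [Subgroup.orderOf_mk]
    exact orderOf_eq_prime hyr hy1
  rw [← h1]
  exact orderOf_dvd_natCard _

/-- the geometric classes which contain elements of order `r`, `q` of order `d ≥ 6` modulo `r` -/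
theorem geo (hp : p.Prime) (ha : 1 ≤ a) (hF : Fintype.card F = p ^ a) (hodd : Odd (Fintype.card F)) {d r : ℕ} (hd : 6 ≤ d)
    (hr : PP p (a * d) r) {M : Subgroup (GL (Fin 4 ⊕ Fin 4) F)} (hM : IsMaximalIn (spGL 4 F) M)
    (hdvd : r ∣ Nat.card M) :
    (∃ W : Submodule F (Fin 4 ⊕ Fin 4 → F), W ≠ ⊥ ∧ IsTotallySingularFor (sympForm 4 F) W ∧ M ≤ subspaceStabilizer W) ∨
    (∃ W : Submodule F (Fin 4 ⊕ Fin 4 → F), W ≠ ⊥ ∧ IsNondegenerateOn (sympForm 4 F) W ∧ finrank F W < 4 ∧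
      M ≤ subspaceStabilizer W) ∨
    (∃ K : Subalgebra F (Matrix (Fin 4 ⊕ Fin 4) (Fin 4 ⊕ Fin 4) F), IsFieldSubalgebra 2 K ∧
      IsSelfAdjointFor (sympForm 4 F) K ∧ M ≤ subalgebraNormalizer K) ∨
    (∃ K : Subalgebra F (Matrix (Fin 4 ⊕ Fin 4) (Fin 4 ⊕ Fin 4) F), IsFieldSubalgebra 2 K ∧
      IsAdjointClosedFor (sympForm 4 F) K ∧ ¬ IsSelfAdjointFor (sympForm 4 F) K ∧ M ≤ subalgebraNormalizer K) ∨
    (∃ R : Subgroup (GL (Fin 4 ⊕ Fin 4) F), IsSymplecticTypeGroup 2 R ∧ ActsAbsolutelyIrreducibly (matrixSet R) ∧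
      Nat.card (Subgroup.center R) = 2 ∧ M ≤ subgroupNormalizer R) ∨
    InSymplecticResidualClass M := by
  have hι : Fintype.card (Fin 4 ⊕ Fin 4) = 8 := by simp
  have hq := Cfsg.Agent.H884.El.one_lt_q F
  have hFn : Nat.card F = p ^ a := by rw [Nat.card_eq_fintype_card, hF]
  have hrq : PP (Nat.card F) d r := by
    rw [hFn]
    exact Cfsg.Agent.H884.El.PP.of_pow hr ha
  have hrd := hrq.lt (by omega)
  have hnd := hrq.not_dvd (by omega)
  have hdec : ∀ (t k : ℕ) (D : Fin t → Submodule F (Fin 4 ⊕ Fin 4 → F)), k < 6 → t < 6 → IsMDecomposition k D →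
      ¬ M ≤ decompositionStabilizer D := by
    intro t k D hk ht hD hH
    have := Cfsg.Agent.H884.El.decomp_le hD hH hrq (by omega) hdvd
    omega
  rcases Cfsg.Agent.S5823.result M hM with ⟨W, h1, h2, rfl⟩ | ⟨W, h1, h2, h3, rfl⟩ | ⟨-, D, hD, rfl⟩ | ⟨D, hD, rfl⟩ |
    ⟨-, D, hD, -, rfl⟩ | ⟨K, h1, h2, -, rfl⟩ | ⟨-, K, h1, h2, h3, rfl⟩ | ⟨-, e, P, f₁, f₂, -, -, -, -, rfl⟩ |
    ⟨F₀, s, P, ζ, hs, hcard, -, -, rfl⟩ | ⟨p', R, -, -, -, h1, h2, -, -, h3, -, rfl⟩ | ⟨-, -, e, P, f₁, -, -, rfl⟩ |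
    ⟨h, -⟩ | h
  · exact Or.inl ⟨W, h1, h2, inf_le_left⟩
  · exact Or.inr (Or.inl ⟨W, h1, h2, h3, inf_le_left⟩)
  · exact absurd inf_le_left (hdec 4 2 D (by norm_num) (by norm_num) hD.decomp)
  · exact absurd inf_le_left (hdec 2 4 D (by norm_num) (by norm_num) hD.decomp)
  · exact absurd inf_le_left (hdec 2 4 D (by norm_num) (by norm_num) hD)
  · exact Or.inr (Or.inr (Or.inl ⟨K, h1, h2, inf_le_left⟩))
  · exact Or.inr (Or.inr (Or.inr (Or.inl ⟨K, h1, h2, h3, inf_le_left⟩)))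
  · exact (Cfsg.Agent.H884.El.kill_tensor e P inf_le_left (by norm_num) (by norm_num) (by rw [hι]) hrq
      (by rw [hι]; omega) hdvd).elim
  · exact (Cfsg.Agent.H884.El.kill_subfield inf_le_left hs (by rw [Nat.card_eq_fintype_card]; exact hcard) hp hFn hr
      (by rw [hι]; omega) (by omega) hdvd).elim
  · exact Or.inr (Or.inr (Or.inr (Or.inr (Or.inl ⟨R, h1, h2, h3, inf_le_left⟩))))
  · exfalso
    rcases Cfsg.Agent.H251.GeoCard.wreath e P hrq.prime hnd (hdvd.trans (Subgroup.card_dvd_of_le inf_le_left)) with h | h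
    · omega
    · have := Cfsg.Agent.H884.El.le_of_div hrq hq.le h
      omega
  · exact absurd hodd h
  · exact Or.inr (Or.inr (Or.inr (Or.inr (Or.inr h))))

theorem aut7 {s : ℕ} (hs : s.Prime)
    (h : s ∣ Nat.card (MulAut (Matrix.ProjectiveSpecialLinearGroup (Fin 2) (ZMod 7)))) : s = 2 ∨ s = 3 ∨ s = 7 := by
  have : Fact (Nat.Prime 7) := ⟨by norm_num⟩
  rcases dvd_mulAut (K := ZMod 7) (p := 7) (N := 1) (by rw [ZMod.card, pow_one]) (by norm_num) hs h with h1 | h1 | h1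
  · exact absurd (Nat.dvd_one.1 h1) hs.ne_one
  · exact Or.inr (Or.inr ((Nat.prime_dvd_prime_iff_eq hs (by norm_num)).1 h1))
  · have h2 : s ∣ 2 ^ 4 * 3 := h1
    rcases hs.dvd_mul.1 h2 with h3 | h3
    · exact Or.inl ((Nat.prime_dvd_prime_iff_eq hs Nat.prime_two).1 (hs.dvd_of_dvd_pow h3))
    · exact Or.inr (Or.inl ((Nat.prime_dvd_prime_iff_eq hs Nat.prime_three).1 h3))

theorem aut17 {s : ℕ} (hs : s.Prime)
    (h : s ∣ Nat.card (MulAut (Matrix.ProjectiveSpecialLinearGroup (Fin 2) (ZMod 17)))) : s = 2 ∨ s = 3 ∨ s = 17 := by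
  have : Fact (Nat.Prime 17) := ⟨by norm_num⟩
  rcases dvd_mulAut (K := ZMod 17) (p := 17) (N := 1) (by rw [ZMod.card, pow_one]) (by norm_num) hs h with h1 | h1 | h1
  · exact absurd (Nat.dvd_one.1 h1) hs.ne_one
  · exact Or.inr (Or.inr ((Nat.prime_dvd_prime_iff_eq hs (by norm_num)).1 h1))
  · have h2 : s ∣ 2 ^ 5 * 3 ^ 2 := h1
    rcases hs.dvd_mul.1 h2 with h3 | h3
    · exact Or.inl ((Nat.prime_dvd_prime_iff_eq hs Nat.prime_two).1 (hs.dvd_of_dvd_pow h3))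
    · exact Or.inr (Or.inl ((Nat.prime_dvd_prime_iff_eq hs Nat.prime_three).1 (hs.dvd_of_dvd_pow h3)))

theorem autA6 {s : ℕ} (hs : s.Prime) (h : s ∣ Nat.card (MulAut (alternatingGroup (Fin 6)))) :
    s = 2 ∨ s = 3 ∨ s = 5 := by
  have h2 : s ∣ 2 ^ 5 * (3 ^ 2 * 5) := h.trans Cfsg.Agent.H753.ResCard.card_mulAut_A6
  rcases hs.dvd_mul.1 h2 with h3 | h3
  · exact Or.inl ((Nat.prime_dvd_prime_iff_eq hs Nat.prime_two).1 (hs.dvd_of_dvd_pow h3))
  · rcases hs.dvd_mul.1 h3 with h4 | h4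
    · exact Or.inr (Or.inl ((Nat.prime_dvd_prime_iff_eq hs Nat.prime_three).1 (hs.dvd_of_dvd_pow h4)))
    · exact Or.inr (Or.inr ((Nat.prime_dvd_prime_iff_eq hs (by norm_num)).1 h4))

/-- a non-scalar element of prime order `r` of a residual subgroup: `r` divides `|Aut S|` -/
theorem dvd_aut {ι : Type} [Fintype ι] [DecidableEq ι] {H P : Subgroup (GL ι F)} (hc : IsResidualCore H P) {S : Type*}
    [Group S] (e : (P ⧸ (scalars ι F).subgroupOf P) ≃* S) {x : GL ι F} (hx : x ∈ H) {r : ℕ} (hr : r.Prime)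
    (hxr : x ^ r = 1) (hxs : x ∉ scalars ι F) : r ∣ Nat.card (MulAut S) := by
  by_contra h
  rw [← Nat.card_congr (MulAut.congr e).toEquiv] at h
  exact hxs (mem_scalars_of_pow hc hx hr hxr h)

/-- the residual rows for an element of order `r`, `q` of order `d ≥ 6` modulo `r` -/
theorem res_rows (hp : p.Prime) (hchar : CharP F p) (ha : 1 ≤ a) (hF : Fintype.card F = p ^ a)
    (hodd : Odd (Fintype.card F)) {d r : ℕ} (hd : 6 ≤ d) (hr : PP p (a * d) r)
    {M : Subgroup (GL (Fin 4 ⊕ Fin 4) F)} (h24 : Res24 F M) {y : GL (Fin 4 ⊕ Fin 4) F} (hy : y ∈ M) (hyr : y ^ r = 1)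
    (hy1 : y ≠ 1) :
    (∃ P, IsResidualCore M P ∧ Nonempty ((P ⧸ (scalars (Fin 4 ⊕ Fin 4) F).subgroupOf P) ≃*
      Matrix.ProjectiveSpecialLinearGroup (Fin 2) (ZMod 7)) ∧ 5 ≤ p ∧ p ≠ 7 ∧ r = 7) ∨
    (∃ P, IsResidualCore M P ∧ Nonempty ((P ⧸ (scalars (Fin 4 ⊕ Fin 4) F).subgroupOf P) ≃*
      Matrix.ProjectiveSpecialLinearGroup (Fin 2) (ZMod 17)) ∧ r = 17) ∨
    (d = 6 ∧ ∃ P, IsResidualCore M P ∧ ∃ (K : Type) (_ : Field K) (_ : Fintype K), Fintype.card K = Fintype.card F ^ 3 ∧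
      Nonempty ((P ⧸ (scalars (Fin 4 ⊕ Fin 4) F).subgroupOf P) ≃* Matrix.ProjectiveSpecialLinearGroup (Fin 2) K)) := by
  have hpf : Fact p.Prime := ⟨hp⟩
  have hod := od_of_pp hF ha (by omega) hr
  have hrd := hod.lt
  have hys : y ∉ scalars (Fin 4 ⊕ Fin 4) F := by
    intro h
    apply hy1
    refine eq_one_of_scalar h hr.prime hyr ?_
    intro h1
    have h2 := (hod.dvd_iff Fintype.card_pos 1).1 (by rwa [pow_one])
    have := Nat.le_of_dvd one_pos h2
    omega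
  have had : a * 6 ≤ a * d := Nat.mul_le_mul_left _ hd
  have hlt := hr.lt (by omega)
  obtain ⟨P, p', hc, hp', hchar', h | h | h | h | h | h⟩ := h24
  · obtain ⟨⟨e⟩, h1, h2, h3⟩ := h
    have hpp : p' = p := CharP.eq F hchar' hchar
    subst hpp
    left
    refine ⟨P, hc, ⟨e⟩, h2, h3, ?_⟩
    rcases aut7 hr.prime (dvd_aut hc e hy hr.prime hyr hys) with h4 | h4 | h4 <;> omega
  · obtain ⟨⟨e⟩, -⟩ := h
    exfalso
    rcases autA6 hr.prime (dvd_aut hc e hy hr.prime hyr hys) with h4 | h4 | h4 <;> omega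
  · obtain ⟨⟨e⟩, -⟩ := h
    right; left
    refine ⟨P, hc, ⟨e⟩, ?_⟩
    rcases aut17 hr.prime (dvd_aut hc e hy hr.prime hyr hys) with h4 | h4 | h4 <;> omega
  · exfalso
    rw [h.2] at hodd
    exact absurd hodd (by decide)
  · exfalso
    obtain ⟨⟨e⟩, h11⟩ := h
    have hpp : p' = p := CharP.eq F hchar' hchar
    subst hpp
    have h4 : 4 ≤ p' ^ a := by
      calc 4 ≤ p' := by omega
        _ = p' ^ 1 := (pow_one _).symm
        _ ≤ p' ^ a := Nat.pow_le_pow_right hp'.pos ha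
    rcases dvd_mulAut hF h4 hr.prime (dvd_aut hc e hy hr.prime hyr hys) with h5 | h5 | h5
    · have := Nat.le_of_dvd (by omega) h5
      omega
    · exact hr.not_dvd (by omega) h5
    · rw [hr.dvd_iff hp.one_lt.le] at h5
      have := Nat.le_of_dvd (by omega) h5
      omega
  · obtain ⟨⟨K, iK, iK', hK, ⟨e⟩⟩, -⟩ := h
    have hKp : Fintype.card K = p ^ (3 * a) := by rw [hK, hF, ← pow_mul, mul_comm]
    have h4 : 4 ≤ p ^ (3 * a) := by
      have h5 : 2 ^ (3 * 1) ≤ p ^ (3 * a) := (Nat.pow_le_pow_left hp.two_le _).trans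
        (Nat.pow_le_pow_right hp.pos (by omega))
      norm_num at h5
      omega
    right; right
    rcases dvd_mulAut hKp h4 hr.prime (dvd_aut hc e hy hr.prime hyr hys) with h5 | h5 | h5
    · have := Nat.le_of_dvd (by omega) h5
      omega
    · exact absurd h5 (hr.not_dvd (by omega))
    · rw [hr.dvd_iff hp.one_lt.le] at h5
      have h6 := Nat.le_of_dvd (by omega) h5
      have h7 : d = 6 := by
        by_contra hne
        have h8 : a * 7 ≤ a * d := Nat.mul_le_mul_left _ (by omega)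
        omega
      exact ⟨h7, P, hc, K, iK, iK', hK, ⟨e⟩⟩

/-- maximal subgroups over an element of order `r8` -/
theorem classA (hp : p.Prime) (hchar : CharP F p) (ha : 1 ≤ a) (hF : Fintype.card F = p ^ a)
    (hodd : Odd (Fintype.card F)) {r : ℕ} (hr : PP p (a * 8) r) (h24 : ∀ H : Subgroup (GL (Fin 4 ⊕ Fin 4) F),
      IsMaximalIn (spGL 4 F) H → InSymplecticResidualClass H → Res24 F H)
    {M : Subgroup (GL (Fin 4 ⊕ Fin 4) F)} (hM : IsMaximalIn (spGL 4 F) M) {y : GL (Fin 4 ⊕ Fin 4) F} (hy : y ∈ M)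
    (hyr : y ^ r = 1) (hy1 : y ≠ 1) :
    (∃ K : Subalgebra F (Matrix (Fin 4 ⊕ Fin 4) (Fin 4 ⊕ Fin 4) F), IsFieldSubalgebra 2 K ∧
      IsSelfAdjointFor (sympForm 4 F) K ∧ M ≤ subalgebraNormalizer K) ∨
    (∃ P, IsResidualCore M P ∧ Nonempty ((P ⧸ (scalars (Fin 4 ⊕ Fin 4) F).subgroupOf P) ≃*
      Matrix.ProjectiveSpecialLinearGroup (Fin 2) (ZMod 17)) ∧ r = 17) := by
  have hι : Fintype.card (Fin 4 ⊕ Fin 4) = 8 := by simp
  have hFn : Nat.card F = p ^ a := by rw [Nat.card_eq_fintype_card, hF]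
  have hod := od_of_pp hF ha (by norm_num) hr
  have hrq : PP (Nat.card F) (2 * 4) r := by
    rw [hFn]
    exact Cfsg.Agent.H884.El.PP.of_pow hr ha
  have hrd := hod.lt
  have hyS : y ∈ spGL 4 F := hM.1.le hy
  have hdvd := card_dvd_of_mem hr.prime hy hyr hy1
  have hirr : ∀ W : Submodule F (Fin 4 ⊕ Fin 4 → F), M ≤ subspaceStabilizer W → W = ⊥ ∨ W = ⊤ := fun W hW =>
    irr_of_od (by rw [hι]; exact hod) hyr hy1 W (fun v hv =>
      (Cfsg.Agent.H918.mem_subspaceStabilizer.1 (hW hy) v).1 hv)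
  rcases geo hp ha hF hodd (by norm_num) hr hM hdvd with ⟨W, h1, h2, h3⟩ | ⟨W, h1, h2, h3, h4⟩ | h | ⟨K, h1, h2, h3, h4⟩ |
    ⟨R, h1, h2, h3, h4⟩ | h
  · exfalso
    rcases hirr W h3 with h | h
    · exact h1 h
    · exact totallySingular_ne_top (by norm_num) h2 h
  · exfalso
    rcases hirr W h4 with h | h
    · exact h1 h
    · rw [h, finrank_top, Module.finrank_fintype_fun_eq_card, hι] at h3
      omega
  · exact Or.inl h
  · exact (Cfsg.Agent.H118.BS.no_quad_even hyS hrq (by decide) (by norm_num) hyr hy1 h1 h2 h3 (h4 hy)).elim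
  · exfalso
    rcases symp_prime (k := 3) (by norm_num) h4 h2 h1 (by norm_num) (by rw [hι]; norm_num) h3 hr.prime hdvd with h | h | h
    · omega
    · have h5 : r ∣ Fintype.card F ^ 1 - 1 := by rwa [pow_one, ← Nat.card_eq_fintype_card]
      have := Nat.le_of_dvd one_pos ((hod.dvd_iff Fintype.card_pos 1).1 h5)
      omega
    · have h5 : 8 ∣ r - 1 := (Dvd.intro_left a rfl).trans (hr.dvd_sub_one (by omega))
      have h6 : r = 9 := by omega
      rw [h6] at hr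
      exact absurd hr.prime (by norm_num)
  · right
    rcases res_rows hp hchar ha hF hodd (by norm_num) hr (h24 M hM h) hy hyr hy1 with ⟨P, -, -, -, -, h6⟩ | h5 | ⟨h5, -⟩
    · omega
    · exact h5
    · omega

/-- maximal subgroups over an element of order `r6` -/
theorem classB (hp : p.Prime) (hchar : CharP F p) (ha : 1 ≤ a) (hF : Fintype.card F = p ^ a)
    (hodd : Odd (Fintype.card F)) (hp2 : p ≠ 2) {r : ℕ} (hr : PP p (a * 6) r)
    (h24 : ∀ H : Subgroup (GL (Fin 4 ⊕ Fin 4) F),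
      IsMaximalIn (spGL 4 F) H → InSymplecticResidualClass H → Res24 F H)
    {M : Subgroup (GL (Fin 4 ⊕ Fin 4) F)} (hM : IsMaximalIn (spGL 4 F) M) {y : GL (Fin 4 ⊕ Fin 4) F} (hy : y ∈ M)
    (hyr : y ^ r = 1) (hy1 : y ≠ 1) :
    (∃ W : Submodule F (Fin 4 ⊕ Fin 4 → F), W ≠ ⊥ ∧ finrank F W ≤ 2 ∧
      (finrank F W = 1 ∨ IsNondegenerateOn (sympForm 4 F) W) ∧ M ≤ subspaceStabilizer W) ∨
    (∀ x ∈ M, ¬ IsTv x) := by
  have hpf : Fact p.Prime := ⟨hp⟩
  have hι : Fintype.card (Fin 4 ⊕ Fin 4) = 8 := by simp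
  have hod := od_of_pp hF ha (by norm_num) hr
  have hrd := hod.lt
  have hyS : y ∈ spGL 4 F := hM.1.le hy
  have hdvd := card_dvd_of_mem hr.prime hy hyr hy1
  have hrF := cast_ne_zero_of_od hod
  have hfix := fixS_eq_two hod hι hyr hy1
  rcases geo hp ha hF hodd (by norm_num) hr hM hdvd with ⟨W, h1, h2, h3⟩ | ⟨W, h1, h2, h3, h4⟩ | ⟨K, h1, h2, h3⟩ |
    ⟨K, h1, h2, h3, h4⟩ | ⟨R, h1, h2, h3, h4⟩ | h
  · left
    have e1 : 2 * finrank F W ≤ 2 * 4 := Cfsg.Agent.H262.El.two_mul_finrank_le (fun u hu v hv => h2 u hu v hv)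
    have e2 : W ≤ fixS y := le_fixS hod hyr (fun v hv => (Cfsg.Agent.H918.mem_subspaceStabilizer.1 (h3 hy) v).1 hv) (by omega)
    have e3 := Submodule.finrank_mono e2
    have e4 : finrank F W ≠ 2 := by
      intro h5
      have e5 : W = fixS y := Submodule.eq_of_le_of_finrank_eq e2 (by omega)
      obtain ⟨w, hw, hw0⟩ := (Submodule.ne_bot_iff _).1 h1
      have e6 := nd_fixS hyS hrF hyr
      rw [← e5] at e6
      obtain ⟨⟨z, hz, hzw⟩, -⟩ := e6 w hw hw0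
      exact hzw (h2 z hz w hw)
    have e5 : finrank F W ≠ 0 := fun h5 => h1 (Submodule.finrank_eq_zero.1 h5)
    exact ⟨W, h1, by omega, Or.inl (by omega), h3⟩
  · left
    have e2 : W ≤ fixS y := le_fixS hod hyr (fun v hv => (Cfsg.Agent.H918.mem_subspaceStabilizer.1 (h4 hy) v).1 hv) (by omega)
    have e3 := Submodule.finrank_mono e2
    exact ⟨W, h1, by omega, Or.inr h2, h4⟩
  · right
    intro x hx hxt
    exact rankOne_not_mem_subalgebraNormalizer (by rw [hι]; norm_num) hxt.isRankOneElt le_rfl h1 (h3 hx)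
  · right
    intro x hx hxt
    exact rankOne_not_mem_subalgebraNormalizer (by rw [hι]; norm_num) hxt.isRankOneElt le_rfl h1 (h4 hx)
  · right
    intro x hx hxt
    refine hxt.not_mem_subgroupNormalizer (by rw [hι]; norm_num) h2 ?_ (h4 hx)
    intro a ha b hb
    have k1 := Cfsg.Agent.H921.commutator_mem_center h1 (fun h => absurd h (by decide)) ⟨a, ha⟩ ⟨b, hb⟩
    obtain ⟨c, hc⟩ := Cfsg.Agent.H921.center_scalar h2 _ k1
    refine ⟨c, ?_⟩
    have k2 : a * b = (a * b * a⁻¹ * b⁻¹) * (b * a) := by group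
    have k3 := congrArg Units.val k2
    rw [Units.val_mul, Units.val_mul (a * b * a⁻¹ * b⁻¹), Units.val_mul b a] at k3
    rw [k3]
    have k4 : ((a * b * a⁻¹ * b⁻¹ : GL (Fin 4 ⊕ Fin 4) F) : Matrix (Fin 4 ⊕ Fin 4) (Fin 4 ⊕ Fin 4) F) =
      c • (1 : Matrix (Fin 4 ⊕ Fin 4) (Fin 4 ⊕ Fin 4) F) := hc
    rw [k4, Matrix.smul_mul, Matrix.one_mul]
  · right
    intro x hx hxt
    have hxs := tv_not_scalar (by rw [hι]; norm_num) hxt
    rcases res_rows hp hchar ha hF hodd le_rfl hr (h24 M hM h) hy hyr hy1 with ⟨P, hc, ⟨e⟩, k1, k2, -⟩ | ⟨P, -, -, h5⟩ |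
      ⟨-, P, hc, K, iK, iK', hK, ⟨e⟩⟩
    · rcases aut7 hp (dvd_aut hc e hx hp hxt.pow_char hxs) with h4 | h4 | h4 <;> omega
    · have h6 : 6 ∣ r - 1 := (Dvd.intro_left a rfl).trans (hr.dvd_sub_one (by omega))
      omega
    · exact no_tv_psl2 hp2 ha hF hι hc hK e hx hxt

/-- coatoms of `Sp` as subgroups of `GL` -/
theorem isMaximalIn_of_coatom {G : Type*} [Group G] {S : Subgroup G} {H : Subgroup S} (h : IsCoatom H) :
    IsMaximalIn S (H.map S.subtype) := by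
  have hle : H.map S.subtype ≤ S := by
    rintro x ⟨y, -, rfl⟩
    exact y.2
  have hinj : Function.Injective (Subgroup.map S.subtype) := Subgroup.map_injective S.subtype_injective
  refine ⟨lt_of_le_of_ne hle ?_, ?_⟩
  · intro he
    apply h.1
    rw [eq_top_iff]
    intro x _
    have : (x : G) ∈ H.map S.subtype := by rw [he]; exact x.2
    obtain ⟨y, hy, hyx⟩ := this
    rwa [← Subtype.ext hyx]
  · intro M h1 h2
    have h3 : H ≤ M.subgroupOf S := by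
      intro x hx
      exact Subgroup.mem_subgroupOf.2 (h1 ⟨x, hx, rfl⟩)
    have h4 : (M.subgroupOf S).map S.subtype = M := by
      rw [Subgroup.subgroupOf_map_subtype, inf_eq_left]
      exact h2
    rcases eq_or_lt_of_le h3 with h5 | h5
    · left
      rw [← h4, ← h5]
    · right
      have h6 := h.2 _ h5
      rw [← h4, h6]
      ext x
      constructor
      · rintro ⟨y, -, rfl⟩
        exact y.2
      · intro hx
        exact ⟨⟨x, hx⟩, trivial, rfl⟩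

/-- avoiding a subgroup -/
theorem av_of {G : Type*} [Group G] {S : Subgroup G} {H : Subgroup S} {x : S}
    (h : ∀ y ∈ S, y * (x : G) * y⁻¹ ∉ H.map S.subtype) : Av x H := by
  intro g hg
  exact h g g.2 ⟨_, hg, rfl⟩

/-- **`PSp_8(q)`, `q` odd, modulo S5824** -/
theorem noTwo_of_res (hodd : Odd (Fintype.card F)) (h24 : ∀ H : Subgroup (GL (Fin 4 ⊕ Fin 4) F),
      IsMaximalIn (spGL 4 F) H → InSymplecticResidualClass H → Res24 F H) : NoTwo (PSp 4 F) := by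
  obtain ⟨p, hchar⟩ := CharP.exists F
  have hp : p.Prime := CharP.char_is_prime F p
  have hpf : Fact p.Prime := ⟨hp⟩
  obtain ⟨a, ha, hF⟩ : ∃ a : ℕ, 1 ≤ a ∧ Fintype.card F = p ^ a := by
    obtain ⟨n, -, hn⟩ := FiniteField.card F p
    exact ⟨n, n.pos, hn⟩
  have hp2 : p ≠ 2 := by
    rintro rfl
    rw [hF] at hodd
    rcases Nat.odd_pow_iff (by omega) |>.1 hodd with ⟨k, hk⟩
    omega
  have hι : Fintype.card (Fin 4 ⊕ Fin 4) = 8 := by simp
  obtain ⟨r8, h8, h83⟩ := exists_r8 hp ha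
  obtain ⟨r6, h6⟩ := exists_r6 hp hp2 ha
  obtain ⟨r4, h4⟩ := exists_r4 hp ha
  have o8 := od_of_pp hF ha (by norm_num) h8
  have o6 := od_of_pp hF ha (by norm_num) h6
  have o4 : Od (Fintype.card F) (2 * 2) r4 := od_of_pp hF ha (by norm_num) h4
  have l8 := o8.lt
  have l6 := o6.lt
  have hfin : Finite (GL (Fin 4 ⊕ Fin 4) F) := inferInstance
  have f8 := Fact.mk h8.prime
  have f6 := Fact.mk h6.prime
  obtain ⟨x8, hx8⟩ := exists_prime_orderOf_dvd_card' (G := spGL 4 F) r8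
    (dvd_card_spGL (by norm_num) o8 (k := 4) dvd_rfl (by norm_num) le_rfl)
  obtain ⟨x6, hx6⟩ := exists_prime_orderOf_dvd_card' (G := spGL 4 F) r6
    (dvd_card_spGL (by norm_num) o6 (k := 3) dvd_rfl (by norm_num) (by norm_num))
  obtain ⟨c, hc⟩ := exists_zel (k := 2) (F := F) (p := p) hp2 le_rfl o4
  -- orders
  have ord : ∀ {x : spGL 4 F} {r : ℕ}, r.Prime → orderOf x = r → ((x : GL (Fin 4 ⊕ Fin 4) F)) ^ r = 1 ∧
      (x : GL (Fin 4 ⊕ Fin 4) F) ≠ 1 := by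
    intro x r hr hx
    refine ⟨?_, ?_⟩
    · rw [← Subgroup.coe_pow, ← hx, pow_orderOf_eq_one]; rfl
    · intro h1
      have h2 : x = 1 := Subtype.ext h1
      rw [h2, orderOf_one] at hx
      exact hr.one_lt.ne hx
  -- p is not 3 or 17 if r8 = 17
  have h17 : ∀ {M P : Subgroup (GL (Fin 4 ⊕ Fin 4) F)}, IsResidualCore M P →
      (P ⧸ (scalars (Fin 4 ⊕ Fin 4) F).subgroupOf P) ≃* Matrix.ProjectiveSpecialLinearGroup (Fin 2) (ZMod 17) →
      r8 = 17 → ∀ x ∈ M, x ^ p = 1 → x ∈ scalars (Fin 4 ⊕ Fin 4) F := by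
    intro M P hc e he x hx hxp
    by_contra hxs
    rcases aut17 hp (dvd_aut hc e hx hp hxp hxs) with h1 | h1 | h1
    · exact hp2 h1
    · exact h83 he h1
    · apply o8.ndvd
      rw [he, hF, h1]
      exact dvd_pow_self 17 (by omega)
  -- transvection
  set v0 : Fin 4 ⊕ Fin 4 → F := Pi.single (Sum.inl 0) 1 with hv0
  have hv0' : v0 ≠ 0 := by
    intro h0
    have := congrFun h0 (Sum.inl 0)
    simp [hv0] at this
  have htv : IsTv (tGL v0 (1 : F)) := tGL_isTv hv0' one_ne_zero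
  let τ : spGL 4 F := ⟨tGL v0 1, tGL_mem _ _⟩
  let γ : spGL 4 F := ⟨c, hc.mem⟩
  have main : NoTwo (spGL 4 F) := by
    refine noTwo_of_two (a := x8) (b := x6) ?_ ?_
    · intro H hH
      by_contra hcon
      push Not at hcon
      obtain ⟨h1, h2⟩ := hcon
      obtain ⟨g, hg⟩ := not_av h1
      obtain ⟨g', hg'⟩ := not_av h2
      have hM := isMaximalIn_of_coatom hH
      have k8 := ord (x := g * x8 * g⁻¹) h8.prime (by
        rw [show g * x8 * g⁻¹ = (MulAut.conj g).toMonoidHom x8 from rfl,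
          orderOf_injective _ (MulAut.conj g).injective, hx8])
      have k6 := ord (x := g' * x6 * g'⁻¹) h6.prime (by
        rw [show g' * x6 * g'⁻¹ = (MulAut.conj g').toMonoidHom x6 from rfl,
          orderOf_injective _ (MulAut.conj g').injective, hx6])
      have m8 : ((g * x8 * g⁻¹ : spGL 4 F) : GL (Fin 4 ⊕ Fin 4) F) ∈ H.map (spGL 4 F).subtype := ⟨_, hg, rfl⟩
      have m6 : ((g' * x6 * g'⁻¹ : spGL 4 F) : GL (Fin 4 ⊕ Fin 4) F) ∈ H.map (spGL 4 F).subtype := ⟨_, hg', rfl⟩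
      rcases classA hp hchar ha hF hodd h8 h24 hM m8 k8.1 k8.2 with ⟨K, h3, h4, h5⟩ | ⟨P, hP, ⟨e⟩, -⟩
      · refine Cfsg.Agent.H118.BS.no_quad_odd (g' * x6 * g'⁻¹ : spGL 4 F).2 (r := r6) (j := 3) ?_ (by decide)
          (by norm_num) k6.1 k6.2 h3 h4 (h5 m6)
        rw [Nat.card_eq_fintype_card, hF]
        exact Cfsg.Agent.H884.El.PP.of_pow h6 ha
      · have hs : ((g' * x6 * g'⁻¹ : spGL 4 F) : GL (Fin 4 ⊕ Fin 4) F) ∉ scalars (Fin 4 ⊕ Fin 4) F := by
          intro h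
          apply k6.2
          refine eq_one_of_scalar h h6.prime k6.1 ?_
          intro h7
          have h9 := (o6.dvd_iff Fintype.card_pos 1).1 (by rwa [pow_one])
          have := Nat.le_of_dvd one_pos h9
          omega
        have h7 : 6 ∣ r6 - 1 := (Dvd.intro_left a rfl).trans (h6.dvd_sub_one (by omega))
        rcases aut17 h6.prime (dvd_aut hP e m6 h6.prime k6.1 hs) with h9 | h9 | h9 <;> omega
    · intro H K hH hK hx hy
      have hMH := isMaximalIn_of_coatom hH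
      have hMK := isMaximalIn_of_coatom hK
      have k8 := ord h8.prime hx8
      have k6 := ord h6.prime hx6
      have m8 : (x8 : GL (Fin 4 ⊕ Fin 4) F) ∈ H.map (spGL 4 F).subtype := ⟨_, hx, rfl⟩
      have m6 : (x6 : GL (Fin 4 ⊕ Fin 4) F) ∈ K.map (spGL 4 F).subtype := ⟨_, hy, rfl⟩
      have cA := classA hp hchar ha hF hodd h8 h24 hMH m8 k8.1 k8.2
      rcases classB hp hchar ha hF hodd hp2 h6 h24 hMK m6 k6.1 k6.2 with ⟨W, w1, w2, w3, w4⟩ | hno
      · refine ⟨γ, av_of fun y hy hm => ?_, av_of fun y hy hm => ?_⟩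
        · rcases cA with ⟨L, h3, h5, h7⟩ | ⟨P, hP, ⟨e⟩, he⟩
          · exact hc.field y hy L h3 h5 (h7 hm)
          · obtain ⟨n, hn⟩ := hc.p_dvd
            have hn0 : n ≠ 0 := by
              rintro rfl
              rw [mul_zero, orderOf_eq_zero_iff] at hn
              exact hn (isOfFinOrder_of_finite c)
            have hcn : orderOf (c ^ n) = p := by
              rw [orderOf_pow' _ hn0, hn, Nat.gcd_eq_right (Dvd.intro_left p rfl), Nat.mul_div_cancel _ (by omega)]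
            have hpow : y * c ^ n * y⁻¹ ∈ H.map (spGL 4 F).subtype := by
              rw [← conj_pow]
              exact Subgroup.pow_mem _ hm n
            have hpp : (y * c ^ n * y⁻¹) ^ p = 1 := by
              rw [conj_pow, ← hcn, pow_orderOf_eq_one, mul_one, mul_inv_cancel]
            have hsc := h17 hP e he _ hpow hpp
            have hone := eq_one_of_scalar hsc hp hpp (by
              rw [hF]
              intro h
              have h1 : p ∣ p ^ a := dvd_pow_self p (by omega)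
              have h2 : 1 ≤ p ^ a := Nat.one_le_pow _ _ hp.pos
              have h3 : p ∣ 1 := by
                have := Nat.dvd_sub h1 h
                rwa [show p ^ a - (p ^ a - 1) = 1 by omega] at this
              exact hp.one_lt.ne' (Nat.dvd_one.1 h3))
            have hcn1 : c ^ n = 1 := by
              have : c ^ n = y⁻¹ * (y * c ^ n * y⁻¹) * y := by group
              rw [this, hone]
              group
            rw [hcn1, orderOf_one] at hcn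
            exact hp.one_lt.ne hcn
        · exact hc.space y hy W w1 w2 w3 (w4 hm)
      · refine ⟨τ, av_of fun y hy hm => ?_, av_of fun y hy hm => ?_⟩
        · have ht := htv.conj y
          rcases cA with ⟨L, h3, h5, h7⟩ | ⟨P, hP, ⟨e⟩, he⟩
          · exact rankOne_not_mem_subalgebraNormalizer (by rw [hι]; norm_num) ht.isRankOneElt le_rfl h3 (h7 hm)
          · exact tv_not_scalar (by rw [hι]; norm_num) ht (h17 hP e he _ hm ht.pow_char)
        · exact hno _ hm (htv.conj y)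
  exact main.of_surjective (Cfsg.Agent.H16.PSp4.prj 4 F) Cfsg.Agent.H16.PSp4.prj_surj

end Main

end Cfsg.Agent.H248.Cov
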