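import Cfsg.Agent.H248.Cov.Res
import Cfsg.Agent.H248.Cov.Dick
import Cfsg.Agent.H262.ElSympGeo
import Cfsg.Agent.H884.ElRows
import Cfsg.Agent.H753.ResCard

/-!
# S2499, symplectic rows: tools

* `od_of_pp`, `exists_r8` : primes;
* `nd_fixS` : the fixed space of a semisimple element is non-degenerate;
* `no_tv_psl2` : no transvection lies in a residual subgroup of `Sp_8(q)` with core of type `PSL_2(q ^ 3)`.
-/

set_option autoImplicit false
set_option linter.unusedSectionVars false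

namespace Cfsg.Agent.H248.Cov

open Cfsg Cfsg.Geo Matrix Module
open Cfsg.Agent.ClassicalGeometry.SympBasic Cfsg.Agent.H876 Cfsg.Agent.H931
open Cfsg.Agent.H262.El
open Cfsg.Agent.H884.El (PP)
open scoped MatrixGroups

universe u

theorem od_of_pp {p a n r q : ℕ} (hq : q = p ^ a) (ha : 1 ≤ a) (hn : 1 ≤ n) (h : PP p (a * n) r) : Od q n r := by
  have h1 := Cfsg.Agent.H884.El.PP.of_pow h ha
  rw [← hq] at h1
  exact ⟨h1.prime, h1.ord, h1.not_dvd hn⟩

theorem ord_193 : orderOf ((3 : ℕ) : ZMod 193) = 16 := by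
  have h1 : orderOf ((3 : ℕ) : ZMod 193) = 2 ^ (3 + 1) := by
    have : Fact (Nat.Prime 2) := ⟨Nat.prime_two⟩
    apply orderOf_eq_prime_pow
    · decide
    · decide
  rw [h1]
  norm_num

theorem ord_17 : orderOf ((3 : ℕ) : ZMod 17) = 16 := by
  have h1 : orderOf ((3 : ℕ) : ZMod 17) = 2 ^ (3 + 1) := by
    have : Fact (Nat.Prime 2) := ⟨Nat.prime_two⟩
    apply orderOf_eq_prime_pow
    · decide
    · decide
  rw [h1]
  norm_num

theorem exists_r8 {p a : ℕ} (hp : p.Prime) (ha : 1 ≤ a) : ∃ r, PP p (a * 8) r ∧ (r = 17 → p ≠ 3) := by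
  by_cases h : p = 3 ∧ a = 2
  · obtain ⟨rfl, rfl⟩ := h
    exact ⟨193, ⟨by norm_num, ord_193⟩, fun h => absurd h (by norm_num)⟩
  · obtain ⟨r, hr⟩ := Cfsg.Agent.H884.El.exists_ppp hp ha (show 3 ≤ 8 by norm_num) (by omega) (fun b hb => by omega)
    refine ⟨r, hr, ?_⟩
    rintro rfl rfl
    have h1 := hr.ord
    rw [ord_17] at h1
    exact h ⟨rfl, by omega⟩

theorem exists_r6 {p a : ℕ} (hp : p.Prime) (hp2 : p ≠ 2) (ha : 1 ≤ a) : ∃ r, PP p (a * 6) r :=
  Cfsg.Agent.H884.El.exists_ppp hp ha (show 3 ≤ 6 by norm_num) (by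
    rintro ⟨h1, -⟩
    have h2 : p ∣ 2 := by
      rw [← h1]
      exact dvd_pow_self p (by omega)
    exact hp2 ((Nat.prime_dvd_prime_iff_eq hp Nat.prime_two).1 h2)) (fun b hb => by omega)

theorem exists_r4 {p a : ℕ} (hp : p.Prime) (ha : 1 ≤ a) : ∃ r, PP p (a * 4) r :=
  Cfsg.Agent.H884.El.exists_ppp hp ha (show 3 ≤ 4 by norm_num) (by omega) (fun b hb => by omega)

section Fix

variable {F : Type u} [Field F] [Fintype F] {m : ℕ}

/-- the fixed space of an element of order prime to the characteristic is nondegenerate -/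
theorem nd_fixS {x : GL (Fin m ⊕ Fin m) F} (hx : x ∈ spGL m F) {r : ℕ} (hr : (r : F) ≠ 0) (hxr : x ^ r = 1) :
    IsNondegenerateOn (sympForm m F) (fixS x) := by
  intro w hw hw0
  have hfk : ∀ k : ℕ, ∀ u, sympForm m F (((x ^ k : GL (Fin m ⊕ Fin m) F) : Matrix (Fin m ⊕ Fin m) (Fin m ⊕ Fin m) F) *ᵥ u) w =
      sympForm m F u w := by
    intro k
    induction k with
    | zero => intro u; simp
    | succ k ih =>
      intro u
      rw [pow_mulVec, ih]
      conv_lhs => rw [← mem_fixS.1 hw]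
      exact mem_spGL_iff.1 hx u w
  obtain ⟨u, hu⟩ : ∃ u, sympForm m F u w ≠ 0 := by
    by_contra hcon
    push Not at hcon
    exact hw0 (eq_zero_of_forall_sympForm_left hcon)
  set s : Fin m ⊕ Fin m → F := ∑ k ∈ Finset.range r, ((x ^ k : GL (Fin m ⊕ Fin m) F) : Matrix (Fin m ⊕ Fin m) (Fin m ⊕ Fin m) F) *ᵥ u with hs
  have hsx : s ∈ fixS x := by
    rw [mem_fixS, hs, Matrix.mulVec_sum]
    have h1 : ∀ k : ℕ, (x : Matrix (Fin m ⊕ Fin m) (Fin m ⊕ Fin m) F) *ᵥ (((x ^ k : GL (Fin m ⊕ Fin m) F) :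
        Matrix (Fin m ⊕ Fin m) (Fin m ⊕ Fin m) F) *ᵥ u) =
        ((x ^ (k + 1) : GL (Fin m ⊕ Fin m) F) : Matrix (Fin m ⊕ Fin m) (Fin m ⊕ Fin m) F) *ᵥ u := by
      intro k
      rw [Matrix.mulVec_mulVec, ← Units.val_mul, pow_succ']
    simp only [h1]
    have h2 := Finset.sum_range_succ' (fun k => ((x ^ k : GL (Fin m ⊕ Fin m) F) : Matrix (Fin m ⊕ Fin m) (Fin m ⊕ Fin m) F) *ᵥ u) r
    have h3 := Finset.sum_range_succ (fun k => ((x ^ k : GL (Fin m ⊕ Fin m) F) : Matrix (Fin m ⊕ Fin m) (Fin m ⊕ Fin m) F) *ᵥ u) r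
    rw [h3] at h2
    simp only [hxr, pow_zero] at h2
    exact (add_right_cancel h2).symm
  have hsw : sympForm m F s w ≠ 0 := by
    have hsum : ∀ t : Finset ℕ, sympForm m F (∑ k ∈ t, ((x ^ k : GL (Fin m ⊕ Fin m) F) : Matrix (Fin m ⊕ Fin m) (Fin m ⊕ Fin m) F) *ᵥ u) w =
        ∑ k ∈ t, sympForm m F (((x ^ k : GL (Fin m ⊕ Fin m) F) : Matrix (Fin m ⊕ Fin m) (Fin m ⊕ Fin m) F) *ᵥ u) w := by
      intro t
      induction t using Finset.induction_on with
      | empty => simp
      | insert a t ha ih => rw [Finset.sum_insert ha, Finset.sum_insert ha, sympForm_add_left, ih]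
    rw [hs, hsum, Finset.sum_congr rfl fun k _ => hfk k u, Finset.sum_const, Finset.card_range, nsmul_eq_mul]
    exact mul_ne_zero hr hu
  refine ⟨⟨s, hsx, hsw⟩, ⟨s, hsx, ?_⟩⟩
  rw [sympForm_swap]
  exact neg_ne_zero.2 hsw

/-- a small invariant subspace is fixed -/
theorem le_fixS {n r : ℕ} (h : Od (Fintype.card F) n r) {ι : Type} [Fintype ι] [DecidableEq ι] {x : GL ι F} (hx : x ^ r = 1)
    {W : Submodule F (ι → F)} (hW : ∀ v ∈ W, (x : Matrix ι ι F) *ᵥ v ∈ W) (hd : finrank F W < n) : W ≤ fixS x := by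
  have e1 := finrank_inv h hx W hW
  have e2 : finrank F W - finrank F (W ⊓ fixS x : Submodule F _) = 0 := by
    by_contra h0
    have := Nat.le_of_dvd (by omega) e1
    omega
  have e3 : W ⊓ fixS x = W := Submodule.eq_of_le_of_finrank_le inf_le_left (by omega)
  rw [← e3]
  exact inf_le_right

/-- a transvection fixes a hyperplane -/
theorem tv_finrank {ι : Type} [Fintype ι] [DecidableEq ι] {x : GL ι F} (hx : IsTv x) :
    Fintype.card ι ≤ Module.finrank F (fixS x) + 1 := by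
  obtain ⟨u, w, hu, hw, huw, h⟩ := hx
  have hgv : ∀ v, (x : Matrix ι ι F) *ᵥ v = v + (w ⬝ᵥ v) • u := fun v => Cfsg.Agent.H918.IsRankOneElt.mulVec h v
  have h1 : LinearMap.ker (dp w) ≤ fixS x := by
    intro v hv
    rw [LinearMap.mem_ker, dp_apply] at hv
    rw [mem_fixS, hgv, hv, zero_smul, add_zero]
  have h2 := LinearMap.finrank_range_add_finrank_ker (dp w)
  rw [Module.finrank_fintype_fun_eq_card] at h2
  have h3 : Module.finrank F (LinearMap.range (dp w)) ≤ 1 := by
    have := Submodule.finrank_le (LinearMap.range (dp w))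
    rwa [Module.finrank_self] at this
  have h4 := Submodule.finrank_mono h1
  omega

theorem tv_not_scalar {ι : Type} [Fintype ι] [DecidableEq ι] (hι : 2 ≤ Fintype.card ι) {x : GL ι F} (hx : IsTv x) :
    x ∉ scalars ι F := by
  intro hs
  have h1 := tv_finrank hx
  obtain ⟨u, w, hu, hw, huw, h⟩ := hx
  have hgv : ∀ v, (x : Matrix ι ι F) *ᵥ v = v + (w ⬝ᵥ v) • u := fun v => Cfsg.Agent.H918.IsRankOneElt.mulVec h v
  obtain ⟨c, hc⟩ := (mem_scalars_iff x).1 hs
  have h2 : (x : Matrix ι ι F) *ᵥ u = u := by rw [hgv, huw, zero_smul, add_zero]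
  have h3 : (c : F) = 1 := by
    rw [hc, Matrix.smul_mulVec, Matrix.one_mulVec] at h2
    have h4 : ((c : F) - 1) • u = 0 := by rw [sub_smul, one_smul, h2, sub_self]
    exact sub_eq_zero.1 ((smul_eq_zero.1 h4).resolve_right hu)
  obtain ⟨v, hv⟩ : ∃ v, w ⬝ᵥ v ≠ 0 := by
    by_contra hcon
    push Not at hcon
    exact hw (dotProduct_eq_zero w hcon)
  have h4 := hgv v
  rw [hc, h3, one_smul, Matrix.one_mulVec, left_eq_add] at h4
  exact smul_ne_zero hv hu h4

/-- the fixed space of an element of order `r` of `Sp_8(q)`, `q` of order 6 modulo `r` -/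
theorem two_le_fixS {r : ℕ} (h : Od (Fintype.card F) 6 r) {ι : Type} [Fintype ι] [DecidableEq ι]
    (hι : Fintype.card ι = 8) {x : GL ι F} (hx : x ^ r = 1) : 2 ≤ Module.finrank F (fixS x) := by
  have h1 := finrank_fixS h hx
  rw [hι] at h1
  have h2 : Module.finrank F (fixS x) ≤ 8 := by
    have := Submodule.finrank_le (fixS x)
    rwa [Module.finrank_fintype_fun_eq_card, hι] at this
  omega

theorem fixS_eq_two {r : ℕ} (h : Od (Fintype.card F) 6 r) {ι : Type} [Fintype ι] [DecidableEq ι]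
    (hι : Fintype.card ι = 8) {x : GL ι F} (hx : x ^ r = 1) (hx1 : x ≠ 1) : Module.finrank F (fixS x) = 2 := by
  have h1 := finrank_fixS h hx
  have h2 := finrank_fixS_lt (F := F) hx1
  rw [hι] at h1 h2
  omega

end Fix

section Tv

variable {F : Type u} [Field F] [Fintype F] {ι : Type} [Fintype ι] [DecidableEq ι]

/-- **no transvection in a residual subgroup with core `PSL_2(q ^ 3)`, dimension 8** -/
theorem no_tv_psl2 {p a : ℕ} [hp : Fact p.Prime] [CharP F p] (hp2 : p ≠ 2) (ha : 1 ≤ a) (hF : Fintype.card F = p ^ a)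
    (hι : Fintype.card ι = 8) {H P : Subgroup (GL ι F)} (hc : IsResidualCore H P) {K : Type*} [Field K] [Fintype K]
    (hK : Fintype.card K = Fintype.card F ^ 3) (e : (P ⧸ ZP P) ≃* Matrix.ProjectiveSpecialLinearGroup (Fin 2) K)
    {x : GL ι F} (hx : x ∈ H) (hxt : IsTv x) : False := by
  have hfinP : Finite P := inferInstance
  obtain ⟨r, hr⟩ := exists_r6 hp.out hp2 ha
  have hod := od_of_pp hF ha (by norm_num) hr
  have hrp := Fact.mk hr.prime
  have hKp : Fintype.card K = p ^ (3 * a) := by rw [hK, hF, ← pow_mul, mul_comm]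
  have hchar : CharP K p := charP_of_card_eq_prime_pow hKp
  have hr' : PP p (2 * (3 * a)) r := by
    rwa [show 2 * (3 * a) = a * 6 by ring]
  have h7 : 7 ≤ r := by
    have := hod.lt
    omega
  apply tv_not_scalar (by rw [hι]; norm_num) hxt
  have hrq : ¬ r ∣ Fintype.card F - 1 := by
    intro h
    have h1 := (hod.dvd_iff Fintype.card_pos 1).1 (by rwa [pow_one])
    have := Nat.le_of_dvd one_pos h1
    omega
  refine mem_scalars_of_pairs hc (by rw [hι]; norm_num) hr.prime hrq ?_ ?_ hx ?_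
  · have h1 : r ∣ Nat.card (P ⧸ ZP P) := by
      rw [Nat.card_congr e.toEquiv]
      have h2 := Cfsg.Agent.H394.SqPsl2.card_psl (F := K)
      have h3 : r ∣ Fintype.card K * (Fintype.card K ^ 2 - 1) := by
        apply Dvd.dvd.mul_left
        rw [hKp, ← pow_mul, hr'.dvd_iff hp.out.one_lt.le]
        exact ⟨1, by ring⟩
      rw [← h2] at h3
      rcases hr.prime.dvd_mul.1 h3 with h4 | h4
      · have h5 := Nat.le_of_dvd (by norm_num) (h4.trans (Nat.gcd_dvd_left _ _))
        omega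
      · exact h4
    have h2 : r ∣ Nat.card P := by
      rw [Subgroup.card_eq_card_quotient_mul_card_subgroup (ZP P)]
      exact Dvd.dvd.mul_right h1 _
    obtain ⟨t, ht⟩ := exists_prime_orderOf_dvd_card' r h2
    refine ⟨t, by rw [← ht, pow_orderOf_eq_one], ?_⟩
    rintro rfl
    rw [orderOf_one] at ht
    exact hr.prime.one_lt.ne ht
  · intro s t hs ht
    rcases dickson_pp hKp (by omega) hr' h7 (x := e s) (y := e t) (by rw [MulEquiv.orderOf_eq, hs])
      (by rw [MulEquiv.orderOf_eq, ht]) with h | h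
    · left
      have h1 : (Subgroup.closure {s, t}).map e.toMonoidHom = ⊤ := by
        rw [MonoidHom.map_closure, Set.image_pair]
        exact h
      rw [eq_top_iff]
      intro z _
      have h2 : e z ∈ (Subgroup.closure {s, t}).map e.toMonoidHom := by rw [h1]; trivial
      obtain ⟨z', hz', hzz⟩ := h2
      rwa [← e.injective hzz]
    · right
      have h2 := congrArg (Subgroup.map e.symm.toMonoidHom) h
      rw [MonoidHom.map_zpowers, MonoidHom.map_zpowers] at h2
      simpa using h2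
  · intro t ht
    have h1 := two_le_fixS hod hι (x := (t : GL ι F)) (congrArg Subtype.val ht)
    have h2 := tv_finrank hxt
    rw [hι] at h2
    have h3 := Submodule.finrank_sup_add_finrank_inf_eq (fixS (t : GL ι F)) (fixS x)
    have h4 : Module.finrank F (fixS (t : GL ι F) ⊔ fixS x : Submodule F (ι → F)) ≤ 8 := by
      have := Submodule.finrank_le (fixS (t : GL ι F) ⊔ fixS x)
      rwa [Module.finrank_fintype_fun_eq_card, hι] at this
    have h5 : fixS (t : GL ι F) ⊓ fixS x ≠ ⊥ := by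
      intro h0
      rw [h0, finrank_bot] at h3
      omega
    obtain ⟨v, hv, hv0⟩ := (Submodule.ne_bot_iff _).1 h5
    exact ⟨v, hv0, mem_fixS.1 hv.1, mem_fixS.1 hv.2⟩

end Tv

end Cfsg.Agent.H248.Cov
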