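import Cfsg.Agent.H248.Cov.Sp8
import Cfsg.Agent.H376.SpEmb
import Cfsg.Agent.H424.Spr.Two

/-!
# S3938 (3/2-generation), the row `PSp_8(q)`, `q` odd

An element `s` of order `q ^ 4 + 1` of `Sp_8(q)` lies in exactly one maximal subgroup, the normalizer of the field of
order `q ^ 2` in `F[s]`.
-/

set_option autoImplicit false
set_option linter.unusedSectionVars false

namespace Cfsg.Agent.H248.Cov

open Cfsg Cfsg.Geo Matrix Module
open Cfsg.Agent.ClassicalGeometry.SympBasic Cfsg.Agent.H876 Cfsg.Agent.H931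
open Cfsg.Agent.H262.El
open Cfsg.Agent.H884.El (PP)
open scoped MatrixGroups

universe u

section Unique

variable {ι : Type} [Fintype ι] [DecidableEq ι] {F : Type u} [Field F]

/-- matrices commuting with an irreducible element commute -/
theorem comm_of_irr [Fintype F] [Nonempty ι] {y : GL ι F}
    (hirr : ∀ W : Submodule F (ι → F), (∀ v ∈ W, (y : Matrix ι ι F) *ᵥ v ∈ W) → W = ⊥ ∨ W = ⊤)
    {a b : Matrix ι ι F} (ha : (y : Matrix ι ι F) * a = a * y) (hb : (y : Matrix ι ι F) * b = b * y) : a * b = b * a := by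
  have hI : Cfsg.Agent.H951.Irr (Matrix.toLin' (y : Matrix ι ι F)) ⊤ := by
    refine ⟨?_, fun w _ => Submodule.mem_top, fun U _ hU => hirr U fun v hv => ?_⟩
    · exact top_ne_bot
    · have := hU v hv
      rwa [Matrix.toLin'_apply] at this
  obtain ⟨P, hP⟩ := Cfsg.Agent.H118.BS.exists_poly (T := Matrix.toLin' a) hI (by
    rw [Module.End.mul_eq_comp, Module.End.mul_eq_comp, ← Matrix.toLin'_mul, ← Matrix.toLin'_mul, ha])
    (fun w _ => Submodule.mem_top)
  have h1 : Matrix.toLin' a = Polynomial.aeval (Matrix.toLin' (y : Matrix ι ι F)) P :=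
    LinearMap.ext fun v => hP v Submodule.mem_top
  have h2 : Commute (Matrix.toLin' (y : Matrix ι ι F)) (Matrix.toLin' b) := by
    change Matrix.toLin' (y : Matrix ι ι F) * Matrix.toLin' b = Matrix.toLin' b * Matrix.toLin' (y : Matrix ι ι F)
    rw [Module.End.mul_eq_comp, Module.End.mul_eq_comp, ← Matrix.toLin'_mul, ← Matrix.toLin'_mul, hb]
  have h3' : ∀ R : Polynomial F, Commute (Polynomial.aeval (Matrix.toLin' (y : Matrix ι ι F)) R) (Matrix.toLin' b) := by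
    intro R
    induction R using Polynomial.induction_on' with
    | add p q hp hq => rw [map_add]; exact hp.add_left hq
    | monomial n c => rw [Polynomial.aeval_monomial]; exact (Algebra.commute_algebraMap_left c _).mul_left (h2.pow_left n)
  have h3 := h3' P
  rw [← h1] at h3
  apply Matrix.toLin'.injective
  rw [Matrix.toLin'_mul, Matrix.toLin'_mul]
  exact h3

theorem mem_normalizer_of_comm {K : Subalgebra F (Matrix ι ι F)} {g : GL ι F}
    (h : ∀ k ∈ K, (g : Matrix ι ι F) * k = k * (g : Matrix ι ι F)) : g ∈ subalgebraNormalizer K := by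
  intro k
  constructor
  · intro hk
    rw [h k hk, Matrix.mul_assoc, ← Units.val_mul, mul_inv_cancel, Units.val_one, Matrix.mul_one]
    exact hk
  · intro hk
    have h1 := h _ hk
    have h2 : (g : Matrix ι ι F) * k * ((g⁻¹ : GL ι F) : Matrix ι ι F) * (g : Matrix ι ι F) = (g : Matrix ι ι F) * k := by
      rw [Matrix.mul_assoc, ← Units.val_mul, inv_mul_cancel, Units.val_one, Matrix.mul_one]
    rw [h2] at h1
    have h3 : (g : Matrix ι ι F) * k * ((g⁻¹ : GL ι F) : Matrix ι ι F) = k := by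
      have h4 := congrArg (fun m => ((g⁻¹ : GL ι F) : Matrix ι ι F) * m) h1
      beta_reduce at h4
      rw [← Matrix.mul_assoc, ← Units.val_mul, inv_mul_cancel, Units.val_one, Matrix.one_mul, ← Matrix.mul_assoc,
        ← Units.val_mul, inv_mul_cancel, Units.val_one, Matrix.one_mul] at h4
      exact h4
    rwa [h3] at hk

/-- **uniqueness of the quadratic field** -/
theorem field_unique [Fintype F] [Nonempty ι] {y : GL ι F}
    (hirr : ∀ W : Submodule F (ι → F), (∀ v ∈ W, (y : Matrix ι ι F) *ᵥ v ∈ W) → W = ⊥ ∨ W = ⊤)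
    {K L : Subalgebra F (Matrix ι ι F)} (hK : IsFieldSubalgebra 2 K) (hL : IsFieldSubalgebra 2 L)
    (hyK : ∀ k ∈ K, (y : Matrix ι ι F) * k = k * y) (hyL : ∀ k ∈ L, (y : Matrix ι ι F) * k = k * y) : K = L := by
  obtain ⟨t, ht⟩ := exists_t F
  obtain ⟨k, hk, hk2⟩ := exists_root hK ht
  obtain ⟨l, hl, hl2⟩ := exists_root hL ht
  have hkl : k * l = l * k := comm_of_irr hirr (hyK k hk) (hyL l hl)
  -- an operator commuting with `y` with nonzero kernel is zero
  have hz : ∀ a : Matrix ι ι F, (y : Matrix ι ι F) * a = a * y → (∃ v, v ≠ 0 ∧ a *ᵥ v = 0) → a = 0 := by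
    intro a ha ⟨v, hv, hv0⟩
    rcases hirr (LinearMap.ker (Matrix.toLin' a)) (fun w hw => by
      rw [LinearMap.mem_ker, Matrix.toLin'_apply] at hw ⊢
      rw [Matrix.mulVec_mulVec, ← ha, ← Matrix.mulVec_mulVec, hw, Matrix.mulVec_zero]) with h | h
    · exfalso
      apply hv
      rw [← Submodule.mem_bot F, ← h, LinearMap.mem_ker, Matrix.toLin'_apply]
      exact hv0
    · apply Matrix.toLin'.injective
      rw [map_zero]
      exact LinearMap.ker_eq_top.1 h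
  have hprod : (l - k) * (l - (t • (1 : Matrix ι ι F) - k)) = 0 := by
    have e : (l - k) * (l - (t • (1 : Matrix ι ι F) - k)) = (l * l - t • l + 1) - (k * k - t • k + 1) := by
      simp only [sub_mul, mul_sub, Matrix.mul_smul, Matrix.mul_one, hkl]
      abel
    rw [e, hk2, hl2, sub_self]
  have hlK : l ∈ K := by
    by_cases h1 : ∃ v, v ≠ 0 ∧ (l - (t • (1 : Matrix ι ι F) - k)) *ᵥ v = 0
    · have h2 := hz _ (by
        rw [mul_sub, sub_mul, hyL l hl, mul_sub, sub_mul, hyK k hk, Matrix.mul_smul, Matrix.smul_mul, Matrix.mul_one,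
          Matrix.one_mul]) h1
      rw [sub_eq_zero.1 h2]
      exact K.sub_mem (K.smul_mem K.one_mem t) hk
    · push Not at h1
      obtain ⟨v, hv⟩ := exists_ne (0 : ι → F)
      have h2 := hz (l - k) (by rw [mul_sub, sub_mul, hyL l hl, hyK k hk]) ⟨_, h1 v hv, by
        rw [Matrix.mulVec_mulVec, hprod, Matrix.zero_mulVec]⟩
      rw [sub_eq_zero.1 h2]
      exact hk
  -- the intersection is everything
  have hA : K ⊓ L ≠ ⊥ := by
    intro hb
    have h1 : l ∈ (⊥ : Subalgebra F (Matrix ι ι F)) := by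
      rw [← hb]
      exact ⟨hlK, hl⟩
    obtain ⟨c, hc⟩ := Algebra.mem_bot.1 h1
    apply ht c
    have h2 : algebraMap F (Matrix ι ι F) (c * c - t * c + 1) = 0 := by
      rw [map_add, map_sub, map_mul, map_mul, map_one, hc, ← hl2, ← Algebra.smul_def]
    exact (map_eq_zero_iff _ (algebraMap F (Matrix ι ι F)).injective).1 h2
  have h1 : finrank F (K ⊓ L : Subalgebra F (Matrix ι ι F)) ≠ 1 := fun h => hA (Subalgebra.finrank_eq_one_iff.1 h)
  have h0 : finrank F (K ⊓ L : Subalgebra F (Matrix ι ι F)) ≠ 0 := Module.finrank_pos.ne'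
  have h2 : finrank F (K ⊓ L : Subalgebra F (Matrix ι ι F)) ≤ finrank F K :=
    Submodule.finrank_mono (s := (K ⊓ L).toSubmodule) (t := K.toSubmodule) (fun x hx => hx.1)
  have h3 : finrank F (K ⊓ L : Subalgebra F (Matrix ι ι F)) = 2 := by
    have := hK.finrank_eq
    omega
  have e1 : K ⊓ L = K := Subalgebra.eq_of_le_of_finrank_eq inf_le_left (h3.trans hK.finrank_eq.symm)
  have e2 : K ⊓ L = L := Subalgebra.eq_of_le_of_finrank_eq inf_le_right (h3.trans hL.finrank_eq.symm)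
  rw [← e1, e2]

end Unique

/-- the order of `Aut (PSL_2 (17))` -/
theorem num17 {q : ℕ} (hq : 3 ≤ q) (hodd : Odd q) (h : q ^ 4 + 1 ∣ 4896 * (q - 1)) : False := by
  obtain ⟨c, hc⟩ := hodd
  have h16 : ∃ w, q ^ 4 + 1 = 2 * w ∧ Odd w := by
    refine ⟨8 * c ^ 4 + 16 * c ^ 3 + 12 * c ^ 2 + 4 * c + 1, by rw [hc]; ring, ?_⟩
    exact ⟨4 * c ^ 4 + 8 * c ^ 3 + 6 * c ^ 2 + 2 * c, by ring⟩
  obtain ⟨w, hw, hwo⟩ := h16
  have hcop : Nat.Coprime w (q - 1) := by
    have h1 : Nat.gcd w (q - 1) ∣ 2 := by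
      have h2 : Nat.gcd w (q - 1) ∣ q ^ 4 + 1 := (Nat.gcd_dvd_left _ _).trans ⟨2, by rw [hw]; ring⟩
      have h3 : Nat.gcd w (q - 1) ∣ (q - 1) * (q ^ 3 + q ^ 2 + q + 1) := (Nat.gcd_dvd_right _ _).mul_right _
      have h4 : q ^ 4 + 1 = (q - 1) * (q ^ 3 + q ^ 2 + q + 1) + 2 := by
        obtain ⟨d, rfl⟩ : ∃ d, q = d + 1 := ⟨q - 1, by omega⟩
        rw [Nat.add_sub_cancel]
        ring
      rw [h4] at h2
      exact (Nat.dvd_add_right h3).1 h2
    rcases (Nat.dvd_prime Nat.prime_two).1 h1 with h2 | h2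
    · exact h2
    · exfalso
      have h3 : 2 ∣ w := h2 ▸ Nat.gcd_dvd_left _ _
      obtain ⟨d, hd⟩ := hwo
      omega
  have h1 : w ∣ 4896 := hcop.dvd_of_dvd_mul_right ((Dvd.intro_left 2 hw.symm).trans h)
  have h2 : w ∣ 153 := by
    have h3 : w ∣ 2 ^ 5 * 153 := h1
    have h4 : Nat.Coprime w (2 ^ 5) := Nat.Coprime.pow_right _ (Nat.coprime_two_right.2 hwo)
    exact h4.dvd_of_dvd_mul_left h3
  have h3 : ¬ 3 ∣ w := by
    intro h4
    have h5 : 3 ∣ q ^ 4 + 1 := h4.trans ⟨2, by rw [hw]; ring⟩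
    have h6 : (q ^ 4 + 1) % 3 = 0 := Nat.mod_eq_zero_of_dvd h5
    have h7 : q % 3 = 0 ∨ q % 3 = 1 ∨ q % 3 = 2 := by omega
    rcases h7 with h7 | h7 | h7 <;> simp [Nat.add_mod, Nat.pow_mod, h7] at h6
  have h4 : w ∣ 17 := by
    have h5 : Nat.Coprime w (3 ^ 2) := Nat.Coprime.pow_right _ ((Nat.Prime.coprime_iff_not_dvd Nat.prime_three).2 h3).symm
    exact h5.dvd_of_dvd_mul_left (show w ∣ 3 ^ 2 * 17 from h2)
  have h5 := Nat.le_of_dvd (by norm_num) h4
  have h6 : 3 ^ 4 ≤ q ^ 4 := Nat.pow_le_pow_left hq 4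
  omega

section Main

variable {F : Type u} [Field F] [Fintype F]

/-- **S3938, `PSp_8(q)`, `q` odd, modulo S5824** -/
theorem spr_of_res (hodd : Odd (Fintype.card F)) (h24 : ∀ H : Subgroup (GL (Fin 4 ⊕ Fin 4) F),
      IsMaximalIn (spGL 4 F) H → InSymplecticResidualClass H → Res24 F H) [IsSimpleGroup (PSp 4 F)] [Finite (PSp 4 F)]
    (hna : ∃ x y : PSp 4 F, x * y ≠ y * x) : Cfsg.Agent.H424.Spr.Spr (PSp 4 F) := by
  obtain ⟨p, hchar⟩ := CharP.exists F
  have hp : p.Prime := CharP.char_is_prime F p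
  have hpf : Fact p.Prime := ⟨hp⟩
  obtain ⟨a, ha, hF⟩ : ∃ a : ℕ, 1 ≤ a ∧ Fintype.card F = p ^ a := by
    obtain ⟨n, -, hn⟩ := FiniteField.card F p
    exact ⟨n, n.pos, hn⟩
  have hq1 : 1 < Fintype.card F := Fintype.one_lt_card
  have hq3 : 3 ≤ Fintype.card F := by
    obtain ⟨c, hc⟩ := hodd
    omega
  have hι : Fintype.card (Fin 4 ⊕ Fin 4) = 8 := by simp
  obtain ⟨r, hr, -⟩ := exists_r8 hp ha
  have hod := od_of_pp hF ha (by norm_num) hr
  have hrd := hod.lt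
  have hfin : Finite (GL (Fin 4 ⊕ Fin 4) F) := inferInstance
  have hrp := hr.prime
  -- `r` divides `q ^ 4 + 1`
  have hrq : r ∣ Fintype.card F ^ 4 + 1 := by
    have h1 : r ∣ Fintype.card F ^ 8 - 1 := (hod.dvd_iff Fintype.card_pos 8).2 dvd_rfl
    have h2 : ¬ r ∣ Fintype.card F ^ 4 - 1 := fun h => by
      have := Nat.le_of_dvd (by norm_num) ((hod.dvd_iff Fintype.card_pos 4).1 h)
      omega
    have h3 : Fintype.card F ^ 8 - 1 = (Fintype.card F ^ 4 - 1) * (Fintype.card F ^ 4 + 1) := by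
      have h4 : 1 ≤ Fintype.card F ^ 4 := Nat.one_le_pow _ _ (by omega)
      obtain ⟨d, hd⟩ : ∃ d, Fintype.card F ^ 4 = d + 1 := ⟨Fintype.card F ^ 4 - 1, by omega⟩
      have h5 : Fintype.card F ^ 8 = (d + 1) ^ 2 := by rw [← hd, ← pow_mul]
      rw [h5, hd, Nat.add_sub_cancel]
      have h6 : (d + 1) ^ 2 = d * (d + 1 + 1) + 1 := by ring
      rw [h6, Nat.add_sub_cancel]
    rw [h3] at h1
    exact (hrp.dvd_mul.1 h1).resolve_left h2
  -- the element
  obtain ⟨A, hA⟩ := Cfsg.Agent.H376.SpEmb.exists_plus F 4 (by norm_num)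
  rw [Nat.card_eq_fintype_card] at hA
  set s : spGL 4 F := (Cfsg.Agent.H16.PSp4.toSymp 4 F).symm A with hs
  have hso : orderOf s = Fintype.card F ^ 4 + 1 := by
    rw [hs, ← hA]
    exact orderOf_injective (Cfsg.Agent.H16.PSp4.toSymp 4 F).symm.toMonoidHom
      (Cfsg.Agent.H16.PSp4.toSymp 4 F).symm.injective A
  obtain ⟨e, he⟩ := hrq
  have he0 : e ≠ 0 := by
    rintro rfl
    rw [mul_zero] at he
    omega
  have hyo : orderOf (s ^ e) = r := by
    rw [orderOf_pow' _ he0, hso, he, Nat.gcd_eq_right (Dvd.intro_left r rfl), Nat.mul_div_cancel _ (by omega)]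
  set y : GL (Fin 4 ⊕ Fin 4) F := ((s ^ e : spGL 4 F) : GL (Fin 4 ⊕ Fin 4) F) with hy
  have hyo' : orderOf y = r := by rw [hy, Subgroup.orderOf_coe, hyo]
  have hyr : y ^ r = 1 := by rw [← hyo', pow_orderOf_eq_one]
  have hy1 : y ≠ 1 := by
    intro h
    rw [h, orderOf_one] at hyo'
    exact hrp.one_lt.ne hyo'
  have hirr : ∀ W : Submodule F (Fin 4 ⊕ Fin 4 → F), (∀ v ∈ W, (y : Matrix (Fin 4 ⊕ Fin 4) (Fin 4 ⊕ Fin 4) F) *ᵥ v ∈ W) →
      W = ⊥ ∨ W = ⊤ := irr_of_od (by rw [hι]; exact hod) hyr hy1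
  have hcomm : ∀ K : Subalgebra F (Matrix (Fin 4 ⊕ Fin 4) (Fin 4 ⊕ Fin 4) F), IsFieldSubalgebra 2 K →
      y ∈ subalgebraNormalizer K → ∀ k ∈ K, (y : Matrix (Fin 4 ⊕ Fin 4) (Fin 4 ⊕ Fin 4) F) * k = k * y := by
    intro K hK hyK k hk
    refine Cfsg.Agent.H906.Cov.commute_of_coprime hK hyK ?_ k hk
    rw [hyo']
    refine Nat.coprime_two_right.2 (hrp.odd_of_ne_two ?_)
    omega
  -- the maximal subgroups over `s`
  have hmax : ∀ H : Subgroup (spGL 4 F), IsCoatom H → s ∈ H →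
      ∃ K : Subalgebra F (Matrix (Fin 4 ⊕ Fin 4) (Fin 4 ⊕ Fin 4) F), IsFieldSubalgebra 2 K ∧
        H.map (spGL 4 F).subtype ≤ subalgebraNormalizer K := by
    intro H hH hsH
    have hM := isMaximalIn_of_coatom hH
    have hyM : y ∈ H.map (spGL 4 F).subtype := ⟨s ^ e, H.pow_mem hsH e, rfl⟩
    rcases classA hp hchar ha hF hodd hr h24 hM hyM hyr hy1 with ⟨K, h3, h4, h5⟩ | ⟨P, hP, ⟨f⟩, -⟩
    · exact ⟨K, h3, h5⟩
    · exfalso
      have hsM : (s : GL (Fin 4 ⊕ Fin 4) F) ∈ H.map (spGL 4 F).subtype := ⟨s, hsH, rfl⟩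
      set n := orderOf (act hP ⟨_, hsM⟩) with hn
      have h1 : act hP (⟨_, hsM⟩ ^ n) = 1 := by rw [map_pow, hn, pow_orderOf_eq_one]
      have h2 := ker_act hP h1
      have h3 := scalar_pow_card h2
      have h4 : (s : GL (Fin 4 ⊕ Fin 4) F) ^ (n * (Fintype.card F - 1)) = 1 := by
        rw [pow_mul]
        exact h3
      have h5 : Fintype.card F ^ 4 + 1 ∣ n * (Fintype.card F - 1) := by
        rw [← hso, ← Subgroup.orderOf_coe]
        exact orderOf_dvd_of_pow_eq_one h4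
      have h6 : n ∣ 4896 := by
        have f17 : Fact (Nat.Prime 17) := ⟨by norm_num⟩
        have h7 : n ∣ Nat.card (MulAut (P ⧸ ZP P)) := orderOf_dvd_natCard _
        rw [Nat.card_congr (MulAut.congr f).toEquiv,
          Cfsg.Agent.S0813.result 17 1 le_rfl (by rw [ZMod.card, pow_one]) 2 le_rfl (fun _ => by norm_num), if_pos rfl,
          Cfsg.Agent.H394.SqPsl2.card_pgl, ZMod.card] at h7
        exact h7
      exact num17 hq3 hodd (h5.trans (Nat.mul_dvd_mul_right h6 _))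
  have hsub : Finite (spGL 4 F) := inferInstance
  set f := Cfsg.Agent.H16.PSp4.prj 4 F with hf
  have hfs : Function.Surjective f := Cfsg.Agent.H16.PSp4.prj_surj
  by_cases hex : ∃ K : Subalgebra F (Matrix (Fin 4 ⊕ Fin 4) (Fin 4 ⊕ Fin 4) F), IsFieldSubalgebra 2 K ∧
      y ∈ subalgebraNormalizer K
  · obtain ⟨K, hK, hyK⟩ := hex
    have huniq : ∀ L : Subalgebra F (Matrix (Fin 4 ⊕ Fin 4) (Fin 4 ⊕ Fin 4) F), IsFieldSubalgebra 2 L →
        y ∈ subalgebraNormalizer L → L = K := fun L hL hyL =>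
      field_unique hirr hL hK (hcomm L hL hyL) (hcomm K hK hyK)
    refine Cfsg.Agent.H424.Spr.spr_of_one_up hna f hfs (s := s) (M := (subalgebraNormalizer K).subgroupOf (spGL 4 F)) ?_ ?_ ?_
    · intro g hg
      rw [Subgroup.mem_subgroupOf]
      have h1 := Cfsg.Agent.H16.PSp4.prj_ker hg
      rw [Subgroup.mem_center_iff] at h1
      have h2 : (y : Matrix (Fin 4 ⊕ Fin 4) (Fin 4 ⊕ Fin 4) F) *
          ((g : GL (Fin 4 ⊕ Fin 4) F) : Matrix (Fin 4 ⊕ Fin 4) (Fin 4 ⊕ Fin 4) F) =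
          ((g : GL (Fin 4 ⊕ Fin 4) F) : Matrix (Fin 4 ⊕ Fin 4) (Fin 4 ⊕ Fin 4) F) *
            (y : Matrix (Fin 4 ⊕ Fin 4) (Fin 4 ⊕ Fin 4) F) := by
        rw [← Units.val_mul, ← Units.val_mul]
        exact congrArg (fun z : spGL 4 F => ((z : GL (Fin 4 ⊕ Fin 4) F) : Matrix (Fin 4 ⊕ Fin 4) (Fin 4 ⊕ Fin 4) F))
          (h1 (s ^ e))
      exact mem_normalizer_of_comm fun k hk => comm_of_irr hirr h2 (hcomm K hK hyK k hk)
    · intro htop
      set v0 : Fin 4 ⊕ Fin 4 → F := Pi.single (Sum.inl 0) 1 with hv0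
      have hv0' : v0 ≠ 0 := by
        intro h0
        have := congrFun h0 (Sum.inl 0)
        simp [hv0] at this
      have htv : IsTv (tGL v0 (1 : F)) := tGL_isTv hv0' one_ne_zero
      have h1 : (⟨tGL v0 1, tGL_mem _ _⟩ : spGL 4 F) ∈ (subalgebraNormalizer K).subgroupOf (spGL 4 F) := by
        rw [htop]; exact Subgroup.mem_top _
      exact rankOne_not_mem_subalgebraNormalizer (by rw [hι]; norm_num) htv.isRankOneElt le_rfl hK
        (Subgroup.mem_subgroupOf.1 h1)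
    · intro M _ hsM hM
      obtain ⟨H, hH, hMH⟩ := (eq_top_or_exists_le_coatom M).resolve_left hM
      obtain ⟨L, hL, hHL⟩ := hmax H hH (hMH hsM)
      have h1 : L = K := huniq L hL (hHL ⟨s ^ e, H.pow_mem (hMH hsM) e, rfl⟩)
      subst h1
      intro g hg
      rw [Subgroup.mem_subgroupOf]
      exact hHL ⟨g, hMH hg, rfl⟩
  · refine Cfsg.Agent.H424.Spr.spr_of_one_up hna f hfs (s := s) (M := f.ker) le_rfl ?_ ?_
    · intro htop
      obtain ⟨x, z, hxz⟩ := hna
      obtain ⟨x', rfl⟩ := hfs x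
      obtain ⟨z', rfl⟩ := hfs z
      have h1 : ∀ g, f g = 1 := fun g => by
        rw [← MonoidHom.mem_ker, htop]; exact Subgroup.mem_top _
      exact hxz (by rw [h1, h1])
    · intro M _ hsM hM
      exfalso
      obtain ⟨H, hH, hMH⟩ := (eq_top_or_exists_le_coatom M).resolve_left hM
      obtain ⟨L, hL, hHL⟩ := hmax H hH (hMH hsM)
      exact hex ⟨L, hL, hHL ⟨s ^ e, H.pow_mem (hMH hsM) e, rfl⟩⟩

end Main

end Cfsg.Agent.H248.Cov
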