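import Cfsg.Agent.H248.Cov.Spr8
import Cfsg.Agent.S5824
import Cfsg.Agent.S0270

/-!
# S3938: the row `PSp_8(q)`, `q` odd
-/

set_option autoImplicit false

namespace Cfsg.Agent.H248.Cov

open Cfsg Cfsg.Geo
open Cfsg.Agent.ClassicalGeometry.SympBasic Cfsg.Agent.H876 Cfsg.Agent.H931

universe u

theorem psp_four_noncomm {F : Type u} [Field F] [Fintype F] : ∃ x y : PSp 4 F, x * y ≠ y * x := by
  have hs : IsSimpleGroup (PSp 4 F) := Cfsg.Agent.S0270.result 4 (by norm_num) (fun h => absurd h (by norm_num))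
  by_contra hcon
  push Not at hcon
  have h1 : commutator (spGL 4 F) ≤ (Cfsg.Agent.H16.PSp4.prj 4 F).ker := by
    rw [commutator_def, Subgroup.commutator_le]
    intro g _ h _
    rw [MonoidHom.mem_ker, map_commutatorElement, commutatorElement_eq_one_iff_mul_comm]
    exact hcon _ _
  rw [Cfsg.Agent.H16.PSp4.spGL_perfect (Or.inl (by norm_num))] at h1
  obtain ⟨x, hx⟩ := exists_ne (1 : PSp 4 F)
  obtain ⟨g, rfl⟩ := Cfsg.Agent.H16.PSp4.prj_surj x
  exact hx (h1 (Subgroup.mem_top g))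

/-- **S3938, the row `PSp_8(q)`, `q` odd** -/
theorem spr_psp_eight {F : Type u} [Field F] [Fintype F] (hodd : Odd (Fintype.card F)) :
    Cfsg.Agent.H424.Spr.Spr (PSp 4 F) := by
  have hs : IsSimpleGroup (PSp 4 F) := Cfsg.Agent.S0270.result 4 (by norm_num) (fun h => absurd h (by norm_num))
  have hf : Finite (PSp 4 F) := Finite.of_surjective _ (Cfsg.Agent.H16.PSp4.prj_surj (m := 4) (F := F))
  exact spr_of_res hodd (fun H hH hS => Cfsg.Agent.S5824.result H hH hS) psp_four_noncomm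

end Cfsg.Agent.H248.Cov
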